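import Mathlib

/-!
# Counting lemmas for subgroups of small index
-/

set_option autoImplicit false

namespace Cfsg.Agent.H52.Un

variable {G : Type*} [Group G] [Finite G]

/-- Bound for a subgroup through its fibres under a map. -/
theorem card_le_of_fibres (H T : Subgroup G) {β : Type*} [Finite β] (f : G → β) (B : Set β)
    (hB : ∀ g ∈ H, f g ∈ B) (hT : ∀ g ∈ H, ∀ g' ∈ H, f g = f g' → g⁻¹ * g' ∈ T) :
    Nat.card H ≤ Nat.card B * Nat.card T := by
  classical
  let sec : B → G := fun b => if h : ∃ a : H, f a.1 = b.1 then h.choose.1 else 1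
  rw [← Nat.card_prod]
  refine Nat.card_le_card_of_injective (fun g : H => (⟨f g.1, hB g.1 g.2⟩,
    ⟨(sec ⟨f g.1, hB g.1 g.2⟩)⁻¹ * g.1, ?_⟩)) ?_
  · have h : ∃ a : H, f a.1 = f g.1 := ⟨g, rfl⟩
    simp only [sec, dif_pos h]
    exact hT _ h.choose.2 _ g.2 h.choose_spec
  · intro g g' h
    simp only [Prod.mk.injEq, Subtype.mk.injEq] at h
    obtain ⟨h1, h2⟩ := h
    apply Subtype.ext
    have e : sec ⟨f g.1, hB g.1 g.2⟩ = sec ⟨f g'.1, hB g'.1 g'.2⟩ := congrArg sec (Subtype.ext h1)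
    rw [← e] at h2
    exact mul_left_cancel h2

/-- A subgroup meets `P` in at least `|P| / [G:H]` elements. -/
theorem card_le_index_mul (H P : Subgroup G) :
    Nat.card P ≤ H.index * Nat.card (H ⊓ P : Subgroup G) := by
  classical
  rw [Subgroup.index, ← Nat.card_prod]
  refine Nat.card_le_card_of_injective (fun g : P => ((g.1 : G ⧸ H),
    ⟨(if h : ∃ a : P, (a.1 : G ⧸ H) = (g.1 : G ⧸ H) then h.choose.1 else 1)⁻¹ * g.1, ?_⟩)) ?_
  · have h : ∃ a : P, (a.1 : G ⧸ H) = (g.1 : G ⧸ H) := ⟨g, rfl⟩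
    rw [dif_pos h]
    exact ⟨QuotientGroup.eq.1 h.choose_spec, P.mul_mem (P.inv_mem h.choose.2) g.2⟩
  · intro g g' h
    simp only [Prod.mk.injEq, Subtype.mk.injEq] at h
    obtain ⟨h1, h2⟩ := h
    simp only [h1] at h2
    exact Subtype.ext (mul_left_cancel h2)

/-- The size of a transitive set is at most the index times the size of an orbit of `H`. -/
theorem card_orbit_le {Ω : Type*} [Finite Ω] (H : Subgroup G) (act : G → Ω → Ω)
    (hmul : ∀ a b x, act (a * b) x = act a (act b x)) (x : Ω) (T : Set Ω)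
    (hT : ∀ h ∈ H, act h x ∈ T) (U : Set Ω) (hU : ∀ y ∈ U, ∃ g, act g x = y) :
    Nat.card U ≤ H.index * Nat.card T := by
  rw [Subgroup.index, ← Nat.card_prod]
  let f : (G ⧸ H) × T → Ω := fun p => act p.1.out p.2.1
  have hsub : U ⊆ Set.range f := by
    intro y hy
    obtain ⟨g, rfl⟩ := hU y hy
    refine ⟨((g : G ⧸ H), ⟨act ((g : G ⧸ H).out⁻¹ * g) x, hT _ ?_⟩), ?_⟩
    · exact QuotientGroup.eq.1 (QuotientGroup.out_eq' _)
    · simp only [f]
      rw [← hmul, mul_inv_cancel_left]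
  calc Nat.card U ≤ Nat.card (Set.range f) := Nat.card_mono (Set.toFinite _) hsub
    _ ≤ Nat.card ((G ⧸ H) × T) := Finite.card_range_le f

end Cfsg.Agent.H52.Un
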