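import Cfsg.Agent.Unitary.Count

/-!
# Numbers of points of unitary spaces and the arithmetic of the minimal index bound
-/

set_option autoImplicit false

namespace Cfsg.Agent.H52.Un

open Cfsg
open Cfsg.Agent.Unitary

/-- `(q² - 1)` times the number of isotropic points. -/
def isoN (q n : ℕ) : ℕ := guFactor q (n - 1) * guFactor q (n - 2)

/-- `(q + 1)` times the number of anisotropic points. -/
def anisoN (q n : ℕ) : ℕ := q ^ (n - 1) * guFactor q (n - 1)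

/-- `N` is below both candidates for the least index. -/
def Small (q n N : ℕ) : Prop := N * (q ^ 2 - 1) < isoN q n ∧ N * (q + 1) < anisoN q n

theorem guFactor_le (q i : ℕ) : guFactor q i ≤ q ^ (i + 1) + 1 := by
  unfold guFactor; split_ifs <;> omega

theorem le_guFactor (q i : ℕ) : q ^ (i + 1) - 1 ≤ guFactor q i := by
  unfold guFactor; split_ifs <;> omega

theorem guFactor_odd {q i : ℕ} (hi : Odd i) : guFactor q i = q ^ (i + 1) - 1 := by
  rw [guFactor, if_neg (Nat.not_even_iff_odd.2 hi)]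

theorem guFactor_even {q i : ℕ} (hi : Even i) : guFactor q i = q ^ (i + 1) + 1 := by
  rw [guFactor, if_pos hi]

theorem not_small_of_pow {q n N : ℕ} (hq : 2 ≤ q) (hn : 5 ≤ n) (h : 2 * q ^ (2 * n - 3) ≤ N) :
    ¬ Small q n N := by
  rintro ⟨h1, -⟩
  obtain ⟨m, rfl⟩ : ∃ m, n = m + 5 := ⟨n - 5, by omega⟩
  have a := guFactor_le q (m + 5 - 1)
  have b := guFactor_le q (m + 5 - 2)
  have hh : isoN q (m + 5) ≤ (q ^ (m + 5) + 1) * (q ^ (m + 4) + 1) := Nat.mul_le_mul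
    (by simpa using a) (by simpa using b)
  set x := q ^ (m + 4) with hx
  have hx16 : 16 ≤ x := calc
    16 = 2 ^ 4 := by norm_num
    _ ≤ 2 ^ (m + 4) := Nat.pow_le_pow_right (by norm_num) (by omega)
    _ ≤ x := Nat.pow_le_pow_left hq _
  have e : q ^ (2 * (m + 5) - 3) * q ^ 2 = q * x ^ 2 := by
    rw [hx, ← pow_mul, ← pow_add, ← pow_succ']; congr 1; omega
  have e1 : q ^ (m + 5) = q * x := by rw [hx, ← pow_succ']
  rw [e1] at hh
  have hq4 : 4 ≤ q ^ 2 := by nlinarith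
  have h2 : 2 * q ^ (2 * (m + 5) - 3) * (q ^ 2 - 1) ≤ N * (q ^ 2 - 1) := Nat.mul_le_mul_right _ h
  set y := q ^ (2 * (m + 5) - 3)
  have h3 : 2 * y * (q ^ 2 - 1) + 2 * y = 2 * (q * x ^ 2) := by
    rw [← e]
    obtain ⟨r, hr⟩ : ∃ r, q ^ 2 = r + 1 := ⟨q ^ 2 - 1, by omega⟩
    rw [hr]; simp only [Nat.add_sub_cancel]; ring
  nlinarith [Nat.mul_le_mul_left y hq4, Nat.mul_le_mul_left x hx16]

theorem big_of_not_small {q n N : ℕ} (hq : 2 ≤ q) (hn : 5 ≤ n) (h : ¬ Small q n N) :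
    2 * q ^ n ≤ N := by
  obtain ⟨m, rfl⟩ : ∃ m, n = m + 5 := ⟨n - 5, by omega⟩
  have a := le_guFactor q (m + 5 - 1)
  have b := le_guFactor q (m + 5 - 2)
  simp only [show m + 5 - 1 + 1 = m + 5 by omega, show m + 5 - 2 + 1 = m + 4 by omega] at a b
  set x := q ^ (m + 4) with hx
  have hx16 : 4 * q ^ 2 ≤ x := by
    calc 4 * q ^ 2 ≤ q ^ 2 * q ^ 2 := Nat.mul_le_mul_right _ (by nlinarith)
      _ = q ^ 4 := by ring
      _ ≤ x := Nat.pow_le_pow_right (by omega) (by omega)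
  have e1 : q ^ (m + 5) = q * x := by rw [hx, ← pow_succ']
  obtain ⟨x', hx'⟩ : ∃ x', x = x' + 1 := ⟨x - 1, by have : 1 ≤ q ^ 2 := Nat.one_le_pow _ _ (by omega); omega⟩
  have hb : x' ≤ guFactor q (m + 5 - 2) := by omega
  obtain ⟨y, hy⟩ : ∃ y, q * x = y + 1 := ⟨q * x - 1, by
    have : 0 < q * x := Nat.mul_pos (by omega) (by omega)
    omega⟩
  have ha : y ≤ guFactor q (m + 5 - 1) := by omega
  rw [e1]
  by_contra hN
  push Not at hN
  apply h
  refine ⟨?_, ?_⟩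
  · calc N * (q ^ 2 - 1) ≤ N * q ^ 2 := Nat.mul_le_mul_left _ (Nat.sub_le _ _)
      _ < 2 * (q * x) * q ^ 2 := Nat.mul_lt_mul_of_pos_right hN (by positivity)
      _ ≤ y * x' := by
        have k1 : q * x * (4 * q ^ 2) ≤ q * x * x := Nat.mul_le_mul_left _ hx16
        have k2 : q * x + x ≤ 2 * (q * x) * q ^ 2 := by
          have : x ≤ q * x := Nat.le_mul_of_pos_left _ (by omega)
          have : 2 * (q * x) * 1 ≤ 2 * (q * x) * q ^ 2 := Nat.mul_le_mul_left _ (Nat.one_le_pow _ _ (by omega))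
          omega
        have k3 : (y + 1) * (x' + 1) = q * x * x := by rw [← hy, ← hx']
        have k4 : (y + 1) * (x' + 1) = y * x' + y + x' + 1 := by ring
        linarith [hy, hx']
      _ ≤ _ := Nat.mul_le_mul ha hb
  · calc N * (q + 1) < 2 * (q * x) * (q + 1) := Nat.mul_lt_mul_of_pos_right hN (by omega)
      _ ≤ x * y := by
        have k1 : q * x * (4 * q ^ 2) ≤ q * x * x := Nat.mul_le_mul_left _ hx16
        have k2 : x + 2 * (q * x) * (q + 1) ≤ q * x * (4 * q ^ 2) := by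
          have h6 : 1 + 2 * q * (q + 1) ≤ 4 * q ^ 3 := by nlinarith [Nat.mul_le_mul_left q (Nat.mul_le_mul hq hq)]
          calc x + 2 * (q * x) * (q + 1) = x * (1 + 2 * q * (q + 1)) := by ring
            _ ≤ x * (4 * q ^ 3) := Nat.mul_le_mul_left _ h6
            _ = q * x * (4 * q ^ 2) := by ring
        have k3 : x * (y + 1) = q * x * x := by rw [← hy]; ring
        have k4 : x * (y + 1) = x * y + x := by ring
        linarith
      _ ≤ _ := by rw [anisoN, show m + 5 - 1 = m + 4 by omega] at *; exact Nat.mul_le_mul_left _ ha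

theorem not_small_six {q N : ℕ} (hq : 2 ≤ q) (h : q ^ 5 * ((q + 1) * (q ^ 3 + 1)) ≤ N) :
    ¬ Small q 6 N := by
  rintro ⟨h1, -⟩
  simp only [isoN, guFactor, show ¬ Even (6 - 1) by decide, show Even (6 - 2) by decide,
    if_true, if_false] at h1
  obtain ⟨r, hr⟩ : ∃ r, q ^ 2 = r + 1 := ⟨q ^ 2 - 1, by have := Nat.one_le_pow 2 q (by omega); omega⟩
  rw [show q ^ (6 - 1 + 1) = (q ^ 2) ^ 3 by ring, hr, Nat.add_sub_cancel,
    show ((r + 1) ^ 3 - 1) = r * (r ^ 2 + 3 * r + 3) by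
      have : (r + 1) ^ 3 = r * (r ^ 2 + 3 * r + 3) + 1 := by ring
      omega] at h1
  have h2 : q ^ 5 * ((q + 1) * (q ^ 3 + 1)) * r ≤ N * r := Nat.mul_le_mul_right _ h
  have h4 : r ^ 2 + 3 * r + 3 = q ^ 4 + q ^ 2 + 1 := by
    rw [show q ^ 4 = (q ^ 2) ^ 2 by ring, hr]; ring
  rw [h4, show (6 - 2 + 1) = 5 by norm_num] at h1
  have h5 : (q ^ 4 + q ^ 2 + 1) * (q ^ 5 + 1) ≤ q ^ 5 * ((q + 1) * (q ^ 3 + 1)) := by
    have : 2 * q ^ 7 ≤ q ^ 8 := by
      calc 2 * q ^ 7 ≤ q * q ^ 7 := Nat.mul_le_mul_right _ hq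
        _ = q ^ 8 := by ring
    have : q ^ 2 ≤ q ^ 4 := Nat.pow_le_pow_right (by omega) (by norm_num)
    have : q ^ 4 ≤ q ^ 6 := Nat.pow_le_pow_right (by omega) (by norm_num)
    have : 1 ≤ q ^ 4 := Nat.one_le_pow _ _ (by omega)
    have : 4 * q ^ 4 ≤ q ^ 7 := by
      calc 4 * q ^ 4 ≤ q ^ 3 * q ^ 4 := Nat.mul_le_mul_right _ (by nlinarith)
        _ = q ^ 7 := by ring
    nlinarith
  nlinarith [Nat.mul_le_mul_left r h5]

theorem isoN_five (q : ℕ) : isoN q 5 = (q ^ 5 + 1) * (q ^ 4 - 1) := by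
  simp [isoN, guFactor, show Even 4 by decide, show ¬ Even 3 by decide]

theorem not_small_five {q N : ℕ} (hq : 2 ≤ q) (h : q ^ 7 + q ^ 5 + q ^ 2 + 1 ≤ N) :
    ¬ Small q 5 N := by
  rintro ⟨h1, -⟩
  rw [isoN_five, show q ^ 4 = (q ^ 2) ^ 2 by ring] at h1
  obtain ⟨r, hr⟩ : ∃ r, q ^ 2 = r + 1 := ⟨q ^ 2 - 1, by have := Nat.one_le_pow 2 q (by omega); omega⟩
  have e : (q ^ 2) ^ 2 - 1 = r * (q ^ 2 + 1) := by
    rw [hr]
    have : (r + 1) ^ 2 = r * (r + 1 + 1) + 1 := by ring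
    omega
  rw [e, show q ^ 2 - 1 = r by omega] at h1
  have e2 : (q ^ 5 + 1) * (q ^ 2 + 1) = q ^ 7 + q ^ 5 + q ^ 2 + 1 := by ring
  nlinarith [Nat.mul_le_mul_right r h]

variable {F : Type*} [Field F] [Fintype F] {q : ℕ}

theorem normCount_of_ne_zero (hF : Fintype.card F = q ^ 2) (n : ℕ) {c : F} (hc : c ≠ 0)
    (hcf : c ^ q = c) : normCount (n + 1) q c = q ^ n * guFactor q n := by
  rw [← normCount_one_nat hF]
  have h := (q_mul_normCount hF (n + 1)).2
  have h2 : (q : ℤ) * normCount (n + 1) q c = q * normCount (n + 1) q (1 : F) := by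
    rw [h c hc hcf, h 1 one_ne_zero (one_pow q)]
  exact_mod_cast mul_left_cancel₀ (Int.natCast_ne_zero.2 (q_ne_zero hF)) h2

theorem normCount_zero_eq (hF : Fintype.card F = q ^ 2) {n : ℕ} (hn : 2 ≤ n) :
    normCount n q (0 : F) = isoN q n + 1 := by
  obtain ⟨m, rfl⟩ : ∃ m, n = m + 2 := ⟨n - 2, by omega⟩
  have h := normCount_zero_vec hF (m + 1)
  have a := guFactor_cast (q_pos hF) (m + 1)
  have b := guFactor_cast (q_pos hF) m
  have : (normCount (m + 2) q (0 : F) : ℤ) = (isoN q (m + 2) : ℤ) + 1 := by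
    rw [isoN, show m + 2 - 1 = m + 1 by omega, show m + 2 - 2 = m by omega]
    push_cast
    rw [a, b, h]
    ring
  exact_mod_cast this

end Cfsg.Agent.H52.Un
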