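import Cfsg.Agent.Unitary.Simple
import Cfsg.Agent.H52.Un.Group
import Cfsg.Agent.H52.Un.Nums

/-!
# Embeddings of smaller special unitary groups; transitivity
-/

set_option autoImplicit false
set_option maxHeartbeats 1000000
set_option linter.unusedSectionVars false

namespace Cfsg.Agent.H52.Un

open Cfsg Matrix
open Cfsg.Agent.Unitary

variable {F : Type*} [Field F] [Fintype F] {n k q : ℕ}

/-- The linear combination with the vectors `E`. -/
def Em (E : Fin k → Fin n → F) : Matrix (Fin n) (Fin k) F := Matrix.of fun i j => E j i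

/-- The coordinates with respect to `E`. -/
def Es (q : ℕ) (E : Fin k → Fin n → F) : Matrix (Fin k) (Fin n) F :=
  Matrix.of fun j i => cj q (E j) i

theorem Em_mulVec (E : Fin k → Fin n → F) (c : Fin k → F) : Em E *ᵥ c = ∑ j, c j • E j := by
  funext i
  simp [Em, Matrix.mulVec, dotProduct, Finset.sum_apply, mul_comm]

theorem Es_mulVec (E : Fin k → Fin n → F) (x : Fin n → F) (j : Fin k) :
    (Es q E *ᵥ x) j = hermForm n F q x (E j) := by
  rw [herm_eq_dot, dotProduct_comm]
  rfl

theorem herm_Em_left (hF : Fintype.card F = q ^ 2) (E : Fin k → Fin n → F) (c : Fin k → F)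
    (y : Fin n → F) : hermForm n F q (Em E *ᵥ c) y = hermForm k F q c (Es q E *ᵥ y) := by
  rw [Em_mulVec, herm_sum_left]
  unfold hermForm
  refine Finset.sum_congr rfl fun j _ => ?_
  rw [Es_mulVec, herm_swap hF y (E j)]
  exact herm_smul_left (c j) (E j) y

theorem herm_Em_right (hF : Fintype.card F = q ^ 2) (E : Fin k → Fin n → F) (c : Fin k → F)
    (y : Fin n → F) : hermForm n F q y (Em E *ᵥ c) = hermForm k F q (Es q E *ᵥ y) c := by
  rw [← herm_swap hF, herm_Em_left hF, herm_swap hF]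

theorem Es_mul_Em (hF : Fintype.card F = q ^ 2) {E : Fin k → Fin n → F} (hE : ON q E) :
    Es q E * Em E = 1 := by
  ext i j
  have h := Es_mulVec (q := q) E (E j) i
  rw [Matrix.one_apply]
  rw [hE j i] at h
  simp only [eq_comm (a := i)]
  exact h

theorem Es_Em (hF : Fintype.card F = q ^ 2) {E : Fin k → Fin n → F} (hE : ON q E) (c : Fin k → F) :
    Es q E *ᵥ (Em E *ᵥ c) = c := by
  rw [Matrix.mulVec_mulVec, Es_mul_Em hF hE, Matrix.one_mulVec]

theorem herm_Em_Em (hF : Fintype.card F = q ^ 2) {E : Fin k → Fin n → F} (hE : ON q E)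
    (c d : Fin k → F) : hermForm n F q (Em E *ᵥ c) (Em E *ᵥ d) = hermForm k F q c d := by
  rw [herm_Em_left hF, Es_Em hF hE]

theorem Em_injective (hF : Fintype.card F = q ^ 2) {E : Fin k → Fin n → F} (hE : ON q E) :
    Function.Injective fun c : Fin k → F => Em E *ᵥ c := fun c d h => by
  have := congrArg (Es q E *ᵥ ·) h
  simpa only [Es_Em hF hE] using this

/-- The matrix acting as `A` on the span of `E` and trivially on its perpendicular. -/
def Mx (q : ℕ) (E : Fin k → Fin n → F) (A : Matrix (Fin k) (Fin k) F) : Matrix (Fin n) (Fin n) F :=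
  1 + Em E * ((A - 1) * Es q E)

theorem Mx_mulVec (E : Fin k → Fin n → F) (A : Matrix (Fin k) (Fin k) F) (x : Fin n → F) :
    Mx q E A *ᵥ x = x + Em E *ᵥ (A *ᵥ (Es q E *ᵥ x) - Es q E *ᵥ x) := by
  rw [Mx, Matrix.add_mulVec, Matrix.one_mulVec, ← Matrix.mulVec_mulVec, ← Matrix.mulVec_mulVec,
    Matrix.sub_mulVec, Matrix.one_mulVec]

theorem Mx_det (hF : Fintype.card F = q ^ 2) {E : Fin k → Fin n → F} (hE : ON q E)
    (A : Matrix (Fin k) (Fin k) F) : (Mx q E A).det = A.det := by
  rw [Mx, det_one_add_mul_comm, Matrix.mul_assoc, Es_mul_Em hF hE, mul_one, add_sub_cancel]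

theorem Mx_preserves (hF : Fintype.card F = q ^ 2) {E : Fin k → Fin n → F} (hE : ON q E)
    {A : Matrix (Fin k) (Fin k) F} (hA : Preserves q A) : Preserves q (Mx q E A) := by
  intro x y
  rw [Mx_mulVec, Mx_mulVec, herm_add_left, herm_add_right hF, herm_add_right hF, herm_Em_Em hF hE,
    herm_Em_left hF, herm_Em_right hF]
  simp only [herm_sub_left, herm_sub_right hF, hA _ _]
  ring

/-- The embedding of `SU k` along an orthonormal family. -/
noncomputable def emb (hF : Fintype.card F = q ^ 2) {E : Fin k → Fin n → F} (hE : ON q E) :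
    SU k F q →* SU n F q where
  toFun A := toSU (Mx_preserves hF hE (mem_SU_iff.1 A.2))
    ((Mx_det hF hE _).trans A.1.2)
  map_one' := ap_ext fun x => by
    rw [ap_one]
    show Mx q E (mat (1 : SU k F q)) *ᵥ x = _
    rw [Mx_mulVec, show mat (1 : SU k F q) = 1 from rfl, one_mulVec, sub_self, mulVec_zero,
      add_zero]
  map_mul' A B := ap_ext fun x => by
    rw [ap_mul]
    show Mx q E (mat (A * B)) *ᵥ x = Mx q E (mat A) *ᵥ (Mx q E (mat B) *ᵥ x)
    simp only [Mx_mulVec, mulVec_add, mulVec_sub, Es_Em hF hE, ← ap_def, ap_mul]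
    abel_nf

theorem ap_emb (hF : Fintype.card F = q ^ 2) {E : Fin k → Fin n → F} (hE : ON q E) (A : SU k F q)
    (x : Fin n → F) :
    ap (emb hF hE A) x = x + Em E *ᵥ (ap A (Es q E *ᵥ x) - Es q E *ᵥ x) :=
  Mx_mulVec E (mat A) x

theorem ap_emb_Em (hF : Fintype.card F = q ^ 2) {E : Fin k → Fin n → F} (hE : ON q E)
    (A : SU k F q) (c : Fin k → F) : ap (emb hF hE A) (Em E *ᵥ c) = Em E *ᵥ ap A c := by
  rw [ap_emb, Es_Em hF hE, ← mulVec_add, add_sub_cancel]

theorem ap_emb_of_orth (hF : Fintype.card F = q ^ 2) {E : Fin k → Fin n → F} (hE : ON q E)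
    (A : SU k F q) {x : Fin n → F} (hx : ∀ j, hermForm n F q x (E j) = 0) :
    ap (emb hF hE A) x = x := by
  rw [ap_emb, show Es q E *ᵥ x = 0 from funext fun j => (Es_mulVec E x j).trans (hx j), ap_zero,
    sub_zero, mulVec_zero, add_zero]

theorem emb_injective (hF : Fintype.card F = q ^ 2) {E : Fin k → Fin n → F} (hE : ON q E) :
    Function.Injective (emb hF hE) := fun A B h => ap_ext fun c => by
  have := congrArg (fun g => ap g (Em E *ᵥ c)) h
  simp only [ap_emb_Em] at this
  exact Em_injective hF hE this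

/-- An element fixing the perpendicular of `E` pointwise comes from `SU k`. -/
theorem exists_emb (hF : Fintype.card F = q ^ 2) {E : Fin k → Fin n → F} (hE : ON q E)
    (g : SU n F q) (hg : ∀ x, (∀ j, hermForm n F q x (E j) = 0) → ap g x = x) :
    ∃ A, emb hF hE A = g := by
  let M := Es q E * (mat g * Em E)
  have hperp : ∀ x, (∀ j, hermForm n F q (x - Em E *ᵥ (Es q E *ᵥ x)) (E j) = 0) := by
    intro x j
    rw [← Es_mulVec, mulVec_sub, Es_Em hF hE, sub_self]
    rfl
  have himg : ∀ c, ap g (Em E *ᵥ c) = Em E *ᵥ (M *ᵥ c) := by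
    intro c
    show _ = Em E *ᵥ ((Es q E * (mat g * Em E)) *ᵥ c)
    rw [← mulVec_mulVec, ← mulVec_mulVec, ← ap_def g]
    set y := ap g (Em E *ᵥ c)
    refine sub_eq_zero.1 (eq_zero_of_forall_right hF fun z => ?_)
    set s := z - Em E *ᵥ (Es q E *ᵥ z) with hs
    have hsE := hperp z
    rw [← hs] at hsE
    have h1 : Es q E *ᵥ s = 0 := funext fun j => (Es_mulVec E s j).trans (hsE j)
    have h2 : hermForm n F q y s = 0 := by
      conv_lhs => rw [← hg s hsE]
      rw [herm_ap, herm_Em_left hF, h1, herm_zero_right hF]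
    rw [show z = s + Em E *ᵥ (Es q E *ᵥ z) by rw [hs]; abel, herm_add_right hF, herm_sub_left,
      h2, herm_Em_left hF, h1, herm_zero_right hF, herm_Em_right hF, mulVec_sub, Es_Em hF hE,
      sub_zero, zero_add]
    simp [herm_zero_left]
  have hM : Preserves q M := fun c d => by
    rw [← herm_Em_Em hF hE (M *ᵥ c), ← himg, ← himg, herm_ap, herm_Em_Em hF hE]
  have hmat : Mx q E M = mat g := by
    refine Matrix.ext_iff_mulVec.2 fun x => ?_
    rw [Mx_mulVec, mulVec_sub, ← himg, ← ap_def]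
    conv_rhs => rw [← sub_add_cancel x (Em E *ᵥ (Es q E *ᵥ x)), ap_add, hg _ (hperp x)]
    abel
  have hdet : M.det = 1 := by rw [← Mx_det hF hE M, hmat]; exact g.1.2
  exact ⟨toSU hM hdet, Subtype.ext (Subtype.ext hmat)⟩

/-! ### Transitivity -/

theorem exists_map_ON (hF : Fintype.card F = q ^ 2) {j : ℕ} (hj : j < n) {f f' : Fin j → Fin n → F}
    (hf : ON q f) (hf' : ON q f') : ∃ g : SU n F q, ∀ i, ap g (f i) = f' i := by
  obtain ⟨g₁, hg₁⟩ := exists_GU_map_ON hF hf hf'
  set M₁ := ((g₁ : GL (Fin n) F) : Matrix (Fin n) (Fin n) F)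
  have hn : M₁.det * M₁.det ^ q = 1 := (mem_GU_iff.1 g₁.2).det_norm hF
  obtain ⟨e, he, -⟩ := hf'.exists_extend hF
  let i₀ : Fin (n - Fintype.card (Fin j)) := ⟨0, by rw [Fintype.card_fin]; omega⟩
  let E : Fin 1 → Fin n → F := fun _ => e i₀
  have hE : ON q E := fun a b => by
    rw [if_pos (Subsingleton.elim a b)]
    simpa using he (Sum.inr i₀) (Sum.inr i₀)
  let D : Matrix (Fin 1) (Fin 1) F := Matrix.diagonal fun _ => M₁.det⁻¹
  have hD : Preserves q D := preserves_diagonal fun _ => by rw [inv_pow, ← mul_inv, hn, inv_one]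
  refine ⟨toSU (M := Mx q E D * M₁) (fun x y => by
      rw [← mulVec_mulVec, ← mulVec_mulVec, Mx_preserves hF hE hD, mem_GU_iff.1 g₁.2]) ?_,
    fun i => ?_⟩
  · rw [det_mul, Mx_det hF hE, det_diagonal, Finset.prod_const, Finset.card_univ, Fintype.card_fin,
      pow_one, inv_mul_cancel₀ (left_ne_zero_of_mul_eq_one hn)]
  · show (Mx q E D * M₁) *ᵥ f i = f' i
    rw [← mulVec_mulVec, hg₁ i, Mx_mulVec]
    have h0 : Es q E *ᵥ f' i = 0 := funext fun a => by
      rw [Es_mulVec]
      exact he (Sum.inl i) (Sum.inr i₀)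
    rw [h0, mulVec_zero, sub_zero, mulVec_zero, add_zero]

/-- Transitivity on vectors of a given non-zero norm. -/
theorem exists_map_norm (hF : Fintype.card F = q ^ 2) (hn : 2 ≤ n) {x y : Fin n → F}
    (hxy : hermForm n F q y y = hermForm n F q x x) (hx : hermForm n F q x x ≠ 0) :
    ∃ g : SU n F q, ap g x = y := by
  obtain ⟨l, hl⟩ := exists_norm_eq hF (herm_self_fixed hF x)
  have hl0 : l ≠ 0 := by rintro rfl; exact hx (by rw [← hl, zero_mul])
  have hl' : l⁻¹ * l⁻¹ ^ q * hermForm n F q x x = 1 := by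
    rw [inv_pow, ← mul_inv, hl, inv_mul_cancel₀ hx]
  obtain ⟨g, hg⟩ := exists_map_ON hF (j := 1) (by omega) (f := fun _ => l⁻¹ • x)
    (f' := fun _ => l⁻¹ • y)
    (fun a b => by rw [if_pos (Subsingleton.elim a b), herm_self_smul, hl'])
    (fun a b => by rw [if_pos (Subsingleton.elim a b), herm_self_smul, hxy, hl'])
  refine ⟨g, ?_⟩
  have := hg 0
  rw [ap_smul] at this
  exact smul_right_injective _ (inv_ne_zero hl0) this

/-- Transitivity on non-zero isotropic vectors. -/
theorem exists_map_iso (hF : Fintype.card F = q ^ 2) (hn : 3 ≤ n) {x y : Fin n → F}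
    (hx0 : x ≠ 0) (hy0 : y ≠ 0) (hx : hermForm n F q x x = 0) (hy : hermForm n F q y y = 0) :
    ∃ g : SU n F q, ap g x = y := by
  obtain ⟨g, -, hg⟩ := exists_map_isotropic hF (nondeg_top hF)
    (by rw [finrank_top, Module.finrank_fin_fun]; exact hn) Submodule.mem_top Submodule.mem_top
    hx hy hx0 hy0
  exact ⟨g, hg⟩

theorem card_iso_nonzero (hF : Fintype.card F = q ^ 2) (hn : 2 ≤ n) :
    Nat.card {x : Fin n → F // x ≠ 0 ∧ hermForm n F q x x = 0} = isoN q n := by
  classical
  have h := normCount_zero_eq hF hn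
  rw [normCount, Nat.card_eq_fintype_card, Fintype.card_subtype] at h
  rw [Nat.card_eq_fintype_card, Fintype.card_subtype]
  have e : (Finset.univ.filter fun x : Fin n → F => x ≠ 0 ∧ hermForm n F q x x = 0) =
      (Finset.univ.filter fun x : Fin n → F => hermForm n F q x x = 0).erase 0 := by
    ext x; simp
  rw [e, Finset.card_erase_of_mem (by simp [herm_zero_left]), h, Nat.add_sub_cancel]

theorem card_norm_vec (hF : Fintype.card F = q ^ 2) (hn : 1 ≤ n) {c : F} (hc : c ≠ 0)
    (hcf : c ^ q = c) :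
    Nat.card {x : Fin n → F // hermForm n F q x x = c} = q ^ (n - 1) * guFactor q (n - 1) := by
  obtain ⟨m, rfl⟩ : ∃ m, n = m + 1 := ⟨n - 1, by omega⟩
  exact normCount_of_ne_zero hF m hc hcf

end Cfsg.Agent.H52.Un
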