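import Cfsg.Agent.H52.Un.Basic

/-!
# Cocycles of `SU(k, q)` on its natural module
-/

set_option autoImplicit false
set_option maxHeartbeats 1000000
set_option linter.unusedSectionVars false

namespace Cfsg.Agent.H52.Un

open Cfsg Matrix
open Cfsg.Agent.Unitary

variable {F : Type*} [Field F] [Fintype F] {k q : ℕ}

theorem exists_norm_one_sq_ne_one (hF : Fintype.card F = q ^ 2) :
    ∃ μ : F, μ * μ ^ q = 1 ∧ μ * μ ≠ 1 := by
  by_contra hh
  push Not at hh
  have h3 : Nat.card {x : F // x * x ^ q = 1} ≤ 2 := by
    refine (Nat.card_le_card_of_injective (fun x => (⟨x.1, ?_⟩ : ({1, -1} : Set F))) ?_).trans ?_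
    · rcases mul_self_eq_one_iff.1 (hh x.1 x.2) with e | e <;> simp [e]
    · exact fun a b e => Subtype.ext (congrArg Subtype.val e :)
    · rw [Nat.card_coe_set_eq]
      exact (Set.ncard_insert_le _ _).trans (by rw [Set.ncard_singleton])
  rw [card_norm_eq_one hF] at h3
  have := two_le_q hF
  omega

theorem exists_sub_conj_eq (hF : Fintype.card F = q ^ 2) {z : F} (hz : z + z ^ q = 0) :
    ∃ a : F, a ^ q - a = z := by
  obtain ⟨t, ht⟩ := exists_trace_ne_zero hF
  refine ⟨-z * t / (t + t ^ q), ?_⟩
  have hzq : z ^ q = -z := eq_neg_of_add_eq_zero_right hz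
  rw [div_pow, trace_pow_q hF, mul_pow, neg_pow_q hF, hzq, ← sub_div]
  field_simp
  ring

/-- A transvection commutes with a semisimple element fixing its axis up to a norm one scalar. -/
theorem tv_commute (hF : Fintype.card F = q ^ 2) {g : SU k F q} {w : Fin k → F} {c l : F}
    (hw : hermForm k F q w w = 0) (hc : c + c ^ q = 0) (hl : l * l ^ q = 1) (hg : ap g w = l • w) :
    g * tv hF hw hc = tv hF hw hc * g := by
  refine ap_ext fun x => ?_
  rw [ap_mul, ap_mul, ap_tv, ap_tv, ap_add, ap_smul, hg, smul_smul]
  congr 2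
  have e : hermForm k F q x w = hermForm k F q (ap g x) w * l ^ q := by
    rw [← herm_ap g x w, hg, herm_smul_right, mul_comm]
  rw [e]
  linear_combination c * hermForm k F q (ap g x) w * hl

/-- Every cocycle is a coboundary on the transvections of a large subspace. -/
theorem cocycle_tv (hF : Fintype.card F = q ^ 2) (hk : 3 ≤ k) (w : SU k F q → (Fin k → F))
    (hw : ∀ A B, w (A * B) = w A + ap A (w B)) :
    ∃ (p : Fin k → F) (W : Submodule F (Fin k → F)), Nondeg q W ∧ 3 ≤ Module.finrank F W ∧
      k ≤ Module.finrank F W + 1 ∧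
      ∀ (x : Fin k → F) (_ : x ∈ W) (hx : hermForm k F q x x = 0) (c : F) (hc : c + c ^ q = 0),
        w (tv hF hx hc) = p - ap (tv hF hx hc) p := by
  classical
  have h0k : 0 < k := by omega
  let i0 : Fin k := ⟨0, h0k⟩
  let e : Fin k → F := Pi.single i0 1
  have hee : hermForm k F q e e = 1 := by rw [herm_single_single hF, if_pos rfl]
  have hxe : ∀ x : Fin k → F, hermForm k F q x e = x i0 := fun x => by
    rw [herm_single_right hF, one_pow, mul_one]
  obtain ⟨μ, hμ, hμ2⟩ := exists_norm_one_sq_ne_one hF
  have hμ0 : μ ≠ 0 := left_ne_zero_of_mul_eq_one hμ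
  have hμ1 : μ ≠ 1 := fun h => hμ2 (by rw [h, mul_one])
  set b := (μ ^ (k - 1))⁻¹ with hbdef
  let d : Fin k → F := fun i => if i = i0 then b else μ
  have hb : b * b ^ q = 1 := by
    rw [hbdef, inv_pow, ← mul_inv, ← pow_mul, mul_comm (k - 1), pow_mul, ← mul_pow, hμ, one_pow,
      inv_one]
  have hdn : ∀ i, d i * d i ^ q = 1 := fun i => by simp only [d]; split_ifs <;> assumption
  have hdet : (Matrix.diagonal d).det = 1 := by
    rw [det_diagonal, Fintype.prod_eq_mul_prod_compl i0,
      Finset.prod_congr rfl (fun i hi => show d i = μ by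
        simp only [Finset.mem_compl, Finset.mem_singleton] at hi
        exact if_neg hi),
      Finset.prod_const, Finset.card_compl, Fintype.card_fin, Finset.card_singleton,
      show d i0 = b from if_pos rfl, hbdef, inv_mul_cancel₀ (pow_ne_zero _ hμ0)]
  let s : SU k F q := toSU (preserves_diagonal hdn) hdet
  have hs : ∀ x i, ap s x i = d i * x i := fun x i => mulVec_diagonal d x i
  let p : Fin k → F := fun i => if d i = 1 then 0 else w s i / (1 - d i)
  let w' : SU k F q → (Fin k → F) := fun A => w A - (p - ap A p)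
  have hw' : ∀ A B, w' (A * B) = w' A + ap A (w' B) := fun A B => by
    simp only [w', hw, ap_mul, ap_sub]
    abel
  have hw'1 : w' 1 = 0 := by
    have := hw' 1 1
    rw [one_mul, ap_one] at this
    exact left_eq_add.1 this
  have hws : w' s = 0 := by
    funext i
    by_cases hdi : d i = 1
    · have hpow : ∀ m : ℕ, w' (s ^ m) i = m • w' s i := by
        intro m
        induction m with
        | zero => rw [pow_zero, hw'1, zero_smul]; rfl
        | succ m ih => rw [pow_succ', hw', Pi.add_apply, hs, hdi, one_mul, ih, succ_nsmul']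
      have hs1 : s ^ (q + 1) = 1 := by
        refine ap_ext fun x => ?_
        have key : ∀ m, ∀ i, ap (s ^ m) x i = d i ^ m * x i := by
          intro m
          induction m with
          | zero => simp
          | succ m ih => intro i; rw [pow_succ', ap_mul, hs, ih i, pow_succ', mul_assoc]
        rw [ap_one]
        funext i
        rw [key, pow_succ', hdn, one_mul]
      have := hpow (q + 1)
      rw [hs1, hw'1, Pi.zero_apply, nsmul_eq_mul, Nat.cast_add, natCast_q_eq_zero hF, zero_add,
        Nat.cast_one, one_mul] at this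
      exact this.symm
    · simp only [w', Pi.sub_apply, hs, p, if_neg hdi, Pi.zero_apply]
      have : 1 - d i ≠ 0 := sub_ne_zero.2 fun h => hdi h.symm
      field_simp
      ring
  have hfix : ∀ A, s * A = A * s → ∀ i, d i ≠ 1 → w' A i = 0 := by
    intro A hA i hi
    have h := congrArg w' hA
    rw [hw', hw', hws, zero_add, ap_zero, add_zero] at h
    have h2 := congrFun h i
    rw [hs] at h2
    exact mul_right_eq_self₀.1 ((mul_comm _ _).trans h2) |>.resolve_left hi
  by_cases hk3 : k = 3
  · -- no eigenvalue one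
    subst hk3
    have hb1 : b ≠ 1 := fun h => hμ2 (by
      have := inv_eq_one.1 (hbdef ▸ h)
      rwa [show 3 - 1 = 2 from rfl, sq] at this)
    have hd1 : ∀ i, d i ≠ 1 := fun i => by simp only [d]; split_ifs <;> assumption
    have hfix0 : ∀ A, s * A = A * s → w' A = 0 := fun A hA => funext fun i => hfix A hA i (hd1 i)
    refine ⟨p, ⊤, nondeg_top hF, by rw [finrank_top, Module.finrank_fin_fun],
      by rw [finrank_top, Module.finrank_fin_fun]; omega, fun x _ hx c hc => ?_⟩
    refine sub_eq_zero.1 (show w' (tv hF hx hc) = 0 from ?_)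
    by_cases hx0 : x i0 = 0
    · refine hfix0 _ (tv_commute hF hx hc hμ (funext fun i => ?_))
      rw [hs, Pi.smul_apply, smul_eq_mul]
      by_cases hi : i = i0
      · rw [hi, hx0, mul_zero, mul_zero]
      · rw [show d i = μ from if_neg hi]
    -- an anisotropic vector orthogonal to `e` and `x`
    let f0 : Fin 3 → F := ![0, x 2 ^ q, -(x 1 ^ q)]
    have hsum : x 1 * x 1 ^ q + x 2 * x 2 ^ q = -(x 0 * x 0 ^ q) := by
      have h := hx
      unfold hermForm at h
      rw [Fin.sum_univ_three] at h
      linear_combination h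
    have hf0 : hermForm 3 F q f0 f0 = -(x 0 * x 0 ^ q) := by
      unfold hermForm
      rw [Fin.sum_univ_three, ← hsum]
      simp [f0, pow_q_q hF, neg_pow_q hF, q_ne_zero hF]
      ring
    have hne : -(x 0 * x 0 ^ q) ≠ 0 :=
      neg_ne_zero.2 (mul_ne_zero hx0 (pow_ne_zero _ hx0))
    obtain ⟨l, hl⟩ := exists_norm_eq hF (a := (-(x 0 * x 0 ^ q))⁻¹)
      (by rw [inv_pow, neg_pow_q hF, norm_pow_q hF])
    set f := l • f0 with hfdef
    have hff : hermForm 3 F q f f = 1 := by
      rw [hfdef, herm_self_smul, hf0, hl, inv_mul_cancel₀ hne]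
    have hfe : hermForm 3 F q f e = 0 := by
      rw [hxe]; simp [hfdef, f0, i0]
    have hxf : hermForm 3 F q x f = 0 := by
      rw [hfdef, herm_smul_right]
      have : hermForm 3 F q x f0 = 0 := by
        unfold hermForm
        rw [Fin.sum_univ_three]
        simp [f0, pow_q_q hF, neg_pow_q hF, q_ne_zero hF]
        ring
      rw [this, mul_zero]
    obtain ⟨g, hg⟩ := exists_map_ON hF (j := 1) (by norm_num)
      (f := fun _ => e) (f' := fun _ => f)
      (fun a b => by rw [if_pos (Subsingleton.elim a b), hee])
      (fun a b => by rw [if_pos (Subsingleton.elim a b), hff])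
    obtain ⟨s', hs'def⟩ : ∃ s', s' = g * s * g⁻¹ := ⟨_, rfl⟩
    have hsform : ∀ y, ap s y = μ • y + ((b - μ) * hermForm 3 F q y e) • e := by
      intro y
      funext i
      rw [hs, hxe]
      simp only [Pi.add_apply, Pi.smul_apply, smul_eq_mul, e, d]
      by_cases hi : i = i0
      · subst hi; rw [if_pos rfl, Pi.single_eq_same]; ring
      · rw [if_neg hi, Pi.single_eq_of_ne hi]; ring
    have hs'form : ∀ y, ap s' y = μ • y + ((b - μ) * hermForm 3 F q y f) • f := by
      intro y
      rw [hs'def, ap_mul, ap_mul, hsform, ap_add, ap_smul, ap_smul, ap_ap_inv, hg 0]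
      congr 3
      rw [← hg 0, herm_ap_right g y e]
    have hcomm : s * s' = s' * s := by
      refine ap_ext fun y => ?_
      have hef := (herm_eq_zero_symm hF).1 hfe
      simp only [ap_mul, hsform, hs'form, herm_add_left, herm_smul_left, hfe, hef, mul_zero,
        add_zero, smul_add, smul_smul]
      module
    have hws' : w' s' = 0 := hfix0 s' hcomm
    have hd' : s' * tv hF hx hc = tv hF hx hc * s' :=
      tv_commute hF hx hc hμ (by rw [hs'form, hxf, mul_zero, zero_smul, add_zero])
    have h := congrArg w' hd'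
    rw [hw', hw', hws', zero_add, ap_zero, add_zero] at h
    -- `s'` fixes no non-zero vector
    set y := w' (tv hF hx hc)
    have h2 : ap s (ap g⁻¹ y) = ap g⁻¹ y := by
      have := congrArg (ap g⁻¹) h
      rwa [hs'def, ap_mul, ap_mul, ap_inv_ap] at this
    have h3 : ap g⁻¹ y = 0 := funext fun i => by
      have h4 := congrFun h2 i
      rw [hs] at h4
      exact mul_right_eq_self₀.1 ((mul_comm _ _).trans h4) |>.resolve_left (hd1 i)
    exact ap_injective g⁻¹ (h3.trans (ap_zero _).symm)
  · -- on the perpendicular of `e`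
    have hon : ON q (fun _ : Fin 1 => e) := fun a b => by rw [if_pos (Subsingleton.elim a b), hee]
    set W := perp q ({e} : Set (Fin k → F))
    have hW : Nondeg q W := by
      have := nondeg_perp hF hon.nondeg
      rwa [perp_span hF, Set.range_const] at this
    have hdimW : Module.finrank F W = k - 1 := by
      have := finrank_perp_add hF hon.nondeg
      rw [hon.finrank_span, perp_span hF, Set.range_const, Fintype.card_fin] at this
      show Module.finrank F ↥(perp q ({e} : Set (Fin k → F))) = k - 1
      exact (Nat.sub_eq_of_eq_add' this.symm).symm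
    have hWi : ∀ {x}, x ∈ W → x i0 = 0 := fun {x} hx => by
      rw [← hxe x]; exact mem_perp_singleton.1 hx
    have hfe : ∀ A, ap A e = e → ∀ i, i ≠ i0 → w' A i = 0 := by
      intro A hA i hi
      have hcomm : s * A = A * s := by
        refine ap_ext fun y => ?_
        have hsform : ∀ y, ap s y = μ • y + ((b - μ) * hermForm k F q y e) • e := by
          intro y
          funext j
          rw [hs, hxe]
          simp only [Pi.add_apply, Pi.smul_apply, smul_eq_mul, e, d]
          by_cases hj : j = i0
          · subst hj; rw [if_pos rfl, Pi.single_eq_same]; ring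
          · rw [if_neg hj, Pi.single_eq_of_ne hj]; ring
        rw [ap_mul, ap_mul, hsform, hsform, ap_add, ap_smul, ap_smul, hA]
        congr 3
        conv_lhs => rw [← hA, herm_ap]
      exact hfix A hcomm i (by rw [show d i = μ from if_neg hi]; exact hμ1)
    have hadd : ∀ A B, ap A e = e → ap B e = e → w' (A * B) = w' A + w' B := by
      intro A B hA hB
      rw [hw']
      congr 1
      have hB' : w' B = w' B i0 • e := funext fun i => by
        by_cases hi : i = i0
        · subst hi; simp [e]
        · rw [hfe B hB i hi]; simp [e, hi]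
      rw [hB', ap_smul, hA]
    refine ⟨p, W, hW, by omega, by omega, fun x hxW hx c hc => ?_⟩
    refine sub_eq_zero.1 (show w' (tv hF hx hc) = 0 from ?_)
    by_cases hx0 : x = 0
    · rw [show tv hF hx hc = 1 from ap_ext fun y => by rw [ap_tv, hx0]; simp, hw'1]
    obtain ⟨f, hfW, hf, hfx⟩ := exists_partner hF hW hxW hx0 hx
    have hxf : hermForm k F q x f ≠ 0 := by
      rw [← herm_swap hF f x, hfx, one_pow]; exact one_ne_zero
    have hP := nondeg_pair hF hx hf hxf
    have hPW := span_pair_le hxW hfW
    obtain ⟨g, ⟨hgW, hgP⟩, hgg⟩ := exists_norm_one hF (inf_perp_nondeg hF hW hP hPW) (fun h => by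
      have := inf_perp_finrank hF hP hPW
      rw [h, finrank_bot, finrank_pair (indep_pair hF hx hxf)] at this
      omega)
    have hgx : hermForm k F q g x = 0 := hgP x (Submodule.subset_span (Set.mem_insert x _))
    obtain ⟨a, ha⟩ := exists_sub_conj_eq hF hc
    obtain ⟨α, hα⟩ := exists_alpha hF hx hgx
    obtain ⟨β, hβ⟩ := exists_alpha hF hx (show hermForm k F q (a • g) x = 0 by
      rw [herm_smul_left, hgx, mul_zero])
    have hE : ∀ {y : Fin k → F} {γ : F}, y ∈ W → ∀ h : ESpec q x y γ, ap (eSU hF h) e = e := by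
      intro y γ hy h
      rw [ap_eSU, (herm_eq_zero_symm hF).1 (mem_perp_singleton.1 hxW),
        (herm_eq_zero_symm hF).1 (mem_perp_singleton.1 hy)]
      simp
    have hA := hE hgW hα
    have hB := hE (W.smul_mem a hgW) hβ
    have hT : ap (tv hF hx hc) e = e := by
      rw [ap_tv, (herm_eq_zero_symm hF).1 (mem_perp_singleton.1 hxW)]
      simp
    have key : tv hF hx hc * (eSU hF hβ * eSU hF hα) = eSU hF hα * eSU hF hβ := by
      refine ap_ext fun y => ?_
      have hxg : hermForm k F q x g = 0 := (herm_eq_zero_symm hF).1 hgx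
      simp only [ap_mul, ap_tv, ap_eSU, herm_sub_left, herm_add_left, herm_smul_left,
        herm_smul_right, hx, hgx, hxg, hgg, mul_zero, add_zero, sub_zero, mul_one]
      match_scalars <;> (try rw [← ha]) <;> ring
    have hBA : ap (eSU hF hβ * eSU hF hα) e = e := by rw [ap_mul, hA, hB]
    have h := congrArg w' key
    rw [hadd _ _ hT hBA, hadd _ _ hA hB, hadd _ _ hB hA, add_comm (w' (eSU hF hβ))] at h
    exact add_eq_right.1 h

end Cfsg.Agent.H52.Un
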