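import Cfsg.Agent.H52.Un.Radical
import Cfsg.Agent.H52.Un.Cocycle

/-!
# The isotropic vectors whose transvections lie in the subgroup
-/

set_option autoImplicit false
set_option maxHeartbeats 1000000
set_option linter.unusedSectionVars false

namespace Cfsg.Agent.H52.Un

open Cfsg Matrix
open Cfsg.Agent.Unitary

variable {F : Type*} [Field F] [Fintype F] {n k q : ℕ}

/-- All transvections with axis `y` lie in `H`. -/
def InS (hF : Fintype.card F = q ^ 2) (H : Subgroup (SU n F q)) (y : Fin n → F) : Prop :=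
  ∃ hy : hermForm n F q y y = 0, ∀ (c : F) (hc : c + c ^ q = 0), tv hF hy hc ∈ H

/-- Outside `InS` the radical part is the root group and the Levi part is everything. -/
def Good (hF : Fintype.card F = q ^ 2) (k : ℕ) (H : Subgroup (SU n F q)) : Prop :=
  ∀ fr : Fr n F q k, ¬ InS hF H fr.u → Rset hF fr H = ⊥ ∧ Iset hF fr H = ⊤

theorem tv_congr (hF : Fintype.card F = q ^ 2) {v v' : Fin n → F} {c c' : F}
    (hv : hermForm n F q v v = 0) (hc : c + c ^ q = 0) (hv' : hermForm n F q v' v' = 0)
    (hc' : c' + c' ^ q = 0)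
    (h : ∀ x, (c * hermForm n F q x v) • v = (c' * hermForm n F q x v') • v') :
    tv hF hv hc = tv hF hv' hc' := ap_ext fun x => by rw [ap_tv, ap_tv, h]

section

variable {hF : Fintype.card F = q ^ 2} {H : Subgroup (SU n F q)}

theorem InS.iso {y : Fin n → F} (h : InS hF H y) : hermForm n F q y y = 0 := h.1

theorem InS.mem {y : Fin n → F} (h : InS hF H y) (hy : hermForm n F q y y = 0) {c : F}
    (hc : c + c ^ q = 0) : tv hF hy hc ∈ H := h.2 c hc

theorem InS.smul {y : Fin n → F} (h : InS hF H y) (a : F) : InS hF H (a • y) := by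
  have hy : hermForm n F q (a • y) (a • y) = 0 := by rw [herm_self_smul, h.iso, mul_zero]
  refine ⟨hy, fun c hc => ?_⟩
  have hc' : c * (a * a ^ q) + (c * (a * a ^ q)) ^ q = 0 := by
    rw [mul_pow, norm_pow_q hF]; linear_combination (a * a ^ q) * hc
  rw [tv_congr hF hy hc h.iso hc' fun x => by rw [herm_smul_right, smul_smul]; congr 1; ring]
  exact h.mem _ hc'

theorem InS.of_smul {y : Fin n → F} {a : F} (ha : a ≠ 0) (h : InS hF H (a • y)) : InS hF H y := by
  have := h.smul a⁻¹
  rwa [inv_smul_smul₀ ha] at this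

theorem InS.map {y : Fin n → F} (h : InS hF H y) {g : SU n F q} (hg : g ∈ H) :
    InS hF H (ap g y) := by
  have hy : hermForm n F q (ap g y) (ap g y) = 0 := by rw [herm_ap, h.iso]
  refine ⟨hy, fun c hc => ?_⟩
  have e : g * tv hF h.iso hc * g⁻¹ = tv hF hy hc := by
    rw [mul_inv_eq_iff_eq_mul]
    refine ap_ext fun x => ?_
    rw [ap_mul, ap_mul, ap_tv, ap_tv, ap_add, ap_smul, herm_ap]
  rw [← e]
  exact H.mul_mem (H.mul_mem hg (h.mem _ hc)) (H.inv_mem hg)

/-- Moving along a non-orthogonal pair. -/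
theorem InS.move {y z : Fin n → F} (hy : InS hF H y) (hz : InS hF H z) {c : F}
    (hc : c + c ^ q = 0) : InS hF H (y + (c * hermForm n F q y z) • z) := by
  have := hy.map (hz.mem hz.iso hc)
  rwa [ap_tv] at this

/-- The line through two orthogonal members. -/
theorem InS.line (hn : n = k + 2) (hgood : Good hF k H) {y z : Fin n → F} (hy : InS hF H y)
    (hz : InS hF H z) (hyz : hermForm n F q y z = 0) (hind : LinearIndependent F ![y, z]) {l : F}
    (hl : l ≠ 0) : InS hF H (y + l • z) := by
  have hy0 : y ≠ 0 := hind.ne_zero 0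
  have hzy := (herm_eq_zero_symm hF).1 hyz
  rw [LinearIndependent.pair_iff] at hind
  set u := y + l • z with hu
  have hu0 : u ≠ 0 := fun h => one_ne_zero (hind 1 l (by rw [one_smul]; exact h)).1
  have huu : hermForm n F q u u = 0 := by
    simp [hu, herm_add_left, herm_add_right hF, herm_smul_left, herm_smul_right, hy.iso, hz.iso,
      hyz, hzy]
  by_contra hcon
  obtain ⟨c, hc0, hcs⟩ := exists_skew hF
  have hc : c + c ^ q = 0 := by rw [hcs, add_neg_cancel]
  have hd : -(l * l ^ q * c) + (-(l * l ^ q * c)) ^ q = 0 := by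
    rw [neg_pow_q hF, mul_pow, norm_pow_q hF, hcs]; ring
  obtain ⟨fr, hfr⟩ := exists_fr (k := k) hF hn hu0 huu
  rw [← hfr] at hcon
  obtain ⟨hR, -⟩ := hgood fr hcon
  set d := Es q fr.E *ᵥ (c • y) with hddef
  set t := hermForm n F q (c • y) fr.v with htdef
  have hcy : c • y = t • fr.u + Em fr.E *ᵥ d := by
    have hu' : hermForm n F q (c • y) fr.u = 0 := by
      rw [hfr, hu, herm_smul_left, herm_add_right hF, herm_smul_right, hy.iso, hyz]
      simp
    conv_lhs => rw [fr.decomp hF (c • y), hu', zero_smul, add_zero]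
  have hdd : hermForm k F q d d = 0 := by
    have h1 : hermForm n F q (c • y) (c • y) = 0 := (hy.smul c).iso
    rw [hcy] at h1
    simp only [herm_add_left, herm_add_right hF, herm_smul_left, herm_smul_right, fr.uu,
      fr.Em_u hF, (herm_eq_zero_symm hF).1 (fr.Em_u hF d), herm_Em_Em hF fr.on, mul_zero,
      add_zero, zero_add] at h1
    exact h1
  have hα : (-c + t - t ^ q) + (-c + t - t ^ q) ^ q + hermForm k F q d d = 0 := by
    rw [hdd, sub_pow_q hF, add_pow_q hF, neg_pow_q hF, hcs, pow_q_q hF]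
    ring
  have hmem : fr.eQ hF hα = tv hF hy.iso hc * tv hF hz.iso hd := by
    refine ap_ext fun x => ?_
    have hEd : Em fr.E *ᵥ d = c • y - t • u := by rw [hcy, hfr]; abel
    rw [ap_mul, ap_tv, ap_tv, herm_add_left, herm_smul_left, hzy, mul_zero, add_zero, Fr.eQ, ap_eSU,
      hfr, hEd]
    simp only [hu, herm_sub_right hF, herm_add_right hF, herm_smul_right, hcs]
    module
  have hd0 : d = 0 := by
    have : d ∈ Rset hF fr H := ⟨_, hα, by
      rw [map_one, mul_one, hmem]; exact H.mul_mem (hy.mem _ hc) (hz.mem _ hd)⟩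
    rwa [hR, AddSubgroup.mem_bot] at this
  rw [hd0, mulVec_zero, add_zero, hfr, hu, smul_add, smul_smul] at hcy
  obtain ⟨h1, h2⟩ := hind (c - t) (-(t * l)) (by linear_combination (norm := module) hcy)
  rw [neg_eq_zero, mul_eq_zero, or_iff_left hl] at h2
  rw [h2, sub_zero] at h1
  exact hc0 h1

/-- A subspace of dimension at least three all of whose isotropic vectors are in `InS`. -/
theorem exists_seed (hn : n = k + 2) (hk : 3 ≤ k) (hgood : Good hF k H) (fr : Fr n F q k)
    (hu : ¬ InS hF H fr.u) :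
    ∃ W : Submodule F (Fin n → F), Nondeg q W ∧ 3 ≤ Module.finrank F W ∧
      n ≤ Module.finrank F W + 3 ∧
      ∀ x ∈ W, hermForm n F q x x = 0 → InS hF H x := by
  obtain ⟨hR, hI⟩ := hgood fr hu
  have hlift : ∀ A, ∃ c, Lift hF fr H A c := fun A => (hI ▸ Subgroup.mem_top A : A ∈ Iset hF fr H)
  choose w hwl using hlift
  have huniq : ∀ {A c}, Lift hF fr H A c → c = w A := by
    intro A c h
    have h2 := h.mul (hwl A).inv
    rw [mul_inv_cancel, ap_ap_inv] at h2
    have : c + -w A ∈ Rset hF fr H := h2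
    rw [hR, AddSubgroup.mem_bot, add_neg_eq_zero] at this
    exact this
  obtain ⟨p, W0, hW0, hd3, hdk, htv⟩ :=
    cocycle_tv hF hk w fun A B => (huniq ((hwl A).mul (hwl B))).symm
  obtain ⟨β, hβ⟩ := exists_trace_eq hF (a := -hermForm k F q p p)
    (by rw [neg_pow_q hF, herm_self_fixed hF])
  have hβ' : β + β ^ q + hermForm k F q p p = 0 := by rw [hβ, neg_add_cancel]
  set g := fr.eQ hF hβ'
  let T : (Fin k → F) →ₗ[F] (Fin n → F) := (mat g).mulVecLin ∘ₗ (Em fr.E).mulVecLin
  have hT : ∀ x, T x = ap g (Em fr.E *ᵥ x) := fun x => rfl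
  have hTh : ∀ x y, hermForm n F q (T x) (T y) = hermForm k F q x y := fun x y => by
    rw [hT, hT, herm_ap, herm_Em_Em hF fr.on]
  have hTinj : Function.Injective T := (ap_injective g).comp (Em_injective hF fr.on)
  have hdim : Module.finrank F (W0.map T) = Module.finrank F W0 :=
    (Submodule.equivMapOfInjective T hTinj W0).finrank_eq.symm
  refine ⟨W0.map T, ?_, by omega, by omega, ?_⟩
  · rintro _ ⟨x, hx, rfl⟩ h
    rw [hW0 x hx fun y hy => by rw [← hTh]; exact h _ ⟨y, hy, rfl⟩, map_zero]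
  rintro _ ⟨x, hx, rfl⟩ hxx
  by_cases hx0 : x = 0
  · subst hx0
    refine ⟨hxx, fun c hc => ?_⟩
    convert H.one_mem
    refine ap_ext fun y => ?_
    rw [ap_tv, map_zero, ap_one, smul_zero, add_zero]
  rw [hTh] at hxx
  by_contra hcon
  -- the lift of a transvection
  have hprod : ∀ (c : F) (hc : c + c ^ q = 0), ∃ (α : F) (hα : α + α ^ q = 0),
      tv hF fr.uu hα * tv hF (show hermForm n F q (T x) (T x) = 0 by rw [hTh, hxx]) hc ∈ H := by
    intro c hc
    set A := tv hF hxx hc
    obtain ⟨α, hα, hmem⟩ := hwl A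
    have hemb : emb hF fr.on A =
        tv hF (show hermForm n F q (Em fr.E *ᵥ x) (Em fr.E *ᵥ x) = 0 by
          rw [herm_Em_Em hF fr.on, hxx]) hc := by
      refine ap_ext fun y => ?_
      rw [ap_emb, ap_tv, ap_tv, add_sub_cancel_left, mulVec_smul, herm_Em_right hF]
    have hconj : g * emb hF fr.on A * g⁻¹ =
        tv hF (show hermForm n F q (T x) (T x) = 0 by rw [hTh, hxx]) hc := by
      rw [mul_inv_eq_iff_eq_mul, hemb]
      refine ap_ext fun y => ?_
      rw [ap_mul, ap_mul, ap_tv, ap_tv, ap_add, ap_smul, hT, herm_ap]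
    have hstep : g * emb hF fr.on A * g⁻¹ =
        fr.eQ hF (okP_add hF hβ' (okP_ap (A := A) (okP_neg hF hβ'))) * emb hF fr.on A := by
      rw [fr.eQ_inv, mul_assoc, fr.emb_conj hF A (okP_neg hF hβ') (okP_ap (okP_neg hF hβ')),
        ← mul_assoc, fr.eQ_mul]
    rw [hconj] at hstep
    have hp : p + ap A (-p) = w A := by
      rw [htv x hx hxx c hc, show -p = (-1 : F) • p by simp, ap_smul]
      module
    set γ := β + β ^ q - hermForm k F q (ap A (-p)) p with hγ
    have hok : γ + γ ^ q + hermForm k F q (w A) (w A) = 0 := by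
      rw [← hp]; exact okP_add hF hβ' (okP_ap (okP_neg hF hβ'))
    rw [fr.eQ_congr hF hp rfl _ hok] at hstep
    have hd : α - γ + (α - γ) ^ q = 0 := by rw [sub_pow_q hF]; linear_combination hα - hok
    refine ⟨α - γ, hd, ?_⟩
    convert hmem using 1
    rw [hstep, ← mul_assoc]
    congr 1
    refine ap_ext fun y => ?_
    simp only [ap_mul, ap_tv, Fr.eQ, ap_eSU, herm_add_left, herm_sub_left, herm_smul_left,
      fr.Em_u hF, fr.uu, hp, mul_zero, add_zero, sub_zero]
    module
  apply hcon
  refine ⟨by rw [hTh, hxx], fun c hc => ?_⟩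
  obtain ⟨α, hα, hmem⟩ := hprod c hc
  by_cases hαH : tv hF fr.uu hα ∈ H
  · have := H.mul_mem (H.inv_mem hαH) hmem
    rwa [inv_mul_cancel_left] at this
  exfalso
  set y := T x with hydef
  have hy : hermForm n F q y y = 0 := by rw [hTh, hxx]
  have hyu : hermForm n F q fr.u y = 0 := by
    rw [hydef, hT]
    conv_lhs => rw [← fr.ap_eQ_u hF hβ']
    rw [herm_ap]
    exact (herm_eq_zero_symm hF).1 (fr.Em_u hF x)
  have hind : LinearIndependent F ![fr.u, y] := by
    rw [LinearIndependent.pair_iff' (fr.u_ne_zero hF)]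
    intro a ha
    have h1 : ap g (a • fr.u) = ap g (Em fr.E *ᵥ x) := by
      rw [ap_smul, fr.ap_eQ_u, ha, hydef, hT]
    have h2 := congrArg (Es q fr.E *ᵥ ·) (ap_injective g h1)
    simp only [mulVec_smul, Es_Em hF fr.on,
      show Es q fr.E *ᵥ fr.u = 0 from funext fun j => (Es_mulVec _ _ j).trans (fr.uE hF j),
      smul_zero] at h2
    exact hx0 h2.symm
  rw [LinearIndependent.pair_iff] at hind
  have hα0 : α ≠ 0 := fun h => hαH (by
    subst h
    convert H.one_mem
    exact ap_ext fun z => by rw [ap_tv, ap_one, zero_mul, zero_smul, add_zero])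
  have hc0 : c ≠ 0 := fun h => hαH (by
    subst h
    have h1 : tv hF hy hc = 1 := ap_ext fun z => by rw [ap_tv, ap_one, zero_mul, zero_smul, add_zero]
    rwa [h1, mul_one] at hmem)
  have hyu' := (herm_eq_zero_symm hF).1 hyu
  -- the isotropic points of the line in `InS`
  have hpts : ∀ μ : F, μ * μ ^ q * α + c = 0 → InS hF H (fr.u + μ • y) := by
    intro μ hμ
    set u' := fr.u + μ • y with hu'
    have hu'0 : u' ≠ 0 := fun h => one_ne_zero (hind 1 μ (by rw [one_smul]; exact h)).1
    have hu'u : hermForm n F q u' u' = 0 := by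
      simp [hu', herm_add_left, herm_add_right hF, herm_smul_left, herm_smul_right, fr.uu, hy, hyu,
        hyu']
    by_contra hcon'
    obtain ⟨fr', hfr'⟩ := exists_fr (k := k) hF hn hu'0 hu'u
    rw [← hfr'] at hcon'
    obtain ⟨hR', -⟩ := hgood fr' hcon'
    set d := Es q fr'.E *ᵥ (α • fr.u) with hddef
    set t := hermForm n F q (α • fr.u) fr'.v with htdef
    have hau : α • fr.u = t • fr'.u + Em fr'.E *ᵥ d := by
      have h0 : hermForm n F q (α • fr.u) fr'.u = 0 := by
        rw [hfr', hu', herm_smul_left, herm_add_right hF, herm_smul_right, fr.uu, hyu]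
        simp
      conv_lhs => rw [fr'.decomp hF (α • fr.u), h0, zero_smul, add_zero]
    have hdd : hermForm k F q d d = 0 := by
      have h1 : hermForm n F q (α • fr.u) (α • fr.u) = 0 := by
        rw [herm_self_smul, fr.uu, mul_zero]
      rw [hau] at h1
      simp only [herm_add_left, herm_add_right hF, herm_smul_left, herm_smul_right, fr'.uu,
        fr'.Em_u hF, (herm_eq_zero_symm hF).1 (fr'.Em_u hF d), herm_Em_Em hF fr'.on, mul_zero,
        add_zero, zero_add] at h1
      exact h1
    have hαq : α ^ q = -α := eq_neg_of_add_eq_zero_right hα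
    have hok : (-α + t - t ^ q) + (-α + t - t ^ q) ^ q + hermForm k F q d d = 0 := by
      rw [hdd, sub_pow_q hF, add_pow_q hF, neg_pow_q hF, hαq, pow_q_q hF]
      ring
    have hmem' : fr'.eQ hF hok = tv hF fr.uu hα * tv hF hy hc := by
      refine ap_ext fun z => ?_
      have hEd : Em fr'.E *ᵥ d = α • fr.u - t • u' := by rw [hau, hfr']; abel
      rw [ap_mul, ap_tv, ap_tv, herm_add_left, herm_smul_left, hyu', mul_zero, add_zero, Fr.eQ,
        ap_eSU, hfr', hEd]
      simp only [hu', herm_sub_right hF, herm_add_right hF, herm_smul_right, hαq]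
      rw [show c = -(μ * μ ^ q * α) from eq_neg_of_add_eq_zero_right hμ]
      module
    have hd0 : d = 0 := by
      have : d ∈ Rset hF fr' H := ⟨_, hok, by rw [map_one, mul_one, hmem']; exact hmem⟩
      rwa [hR', AddSubgroup.mem_bot] at this
    rw [hd0, mulVec_zero, add_zero, hfr', hu', smul_add, smul_smul] at hau
    obtain ⟨h1, h2⟩ := hind (α - t) (-(t * μ)) (by linear_combination (norm := module) hau)
    have hμ0 : μ ≠ 0 := fun h => hc0 (by simpa [h] using hμ)
    rw [neg_eq_zero, mul_eq_zero, or_iff_left hμ0] at h2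
    rw [h2, sub_zero] at h1
    exact hα0 h1
  -- two of them generate the line
  have hfix : (-c / α) ^ q = -c / α := by
    rw [div_pow, neg_pow_q hF, eq_neg_of_add_eq_zero_right hc, eq_neg_of_add_eq_zero_right hα]
    field_simp
  obtain ⟨μ, hμ⟩ := exists_norm_eq hF hfix
  obtain ⟨ε, hε, hε2⟩ := exists_norm_one_sq_ne_one hF
  have hε1 : ε ≠ 1 := fun h => hε2 (by rw [h, mul_one])
  have hμc : μ * μ ^ q * α + c = 0 := by rw [hμ, div_mul_cancel₀ _ hα0, neg_add_cancel]
  have hμ0 : μ ≠ 0 := fun h => hc0 (by simpa [h] using hμc)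
  have h1 := hpts μ hμc
  have h2 := hpts (ε * μ) (by rw [mul_pow]; linear_combination hμc + μ * μ ^ q * α * hε)
  refine hu (InS.of_smul (a := 1 - ε⁻¹) (sub_ne_zero.2 fun h => hε1 (inv_eq_one.1 h.symm)) ?_)
  have hε0 : ε ≠ 0 := left_ne_zero_of_mul_eq_one hε
  convert InS.line hn hgood h1 h2 (by
    simp [herm_add_left, herm_add_right hF, herm_smul_left, herm_smul_right, fr.uu, hy, hyu, hyu'])
    (by
      rw [LinearIndependent.pair_iff]
      intro a b hab
      obtain ⟨e1, e2⟩ := hind (a + b) (a * μ + b * (ε * μ))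
        (by linear_combination (norm := module) hab)
      have e3 : b * (ε - 1) * μ = 0 := by linear_combination e2 - μ * e1
      rw [mul_eq_zero, or_iff_left hμ0, mul_eq_zero, or_iff_left (sub_ne_zero.2 hε1)] at e3
      exact ⟨by linear_combination e1 - e3, e3⟩)
    (neg_ne_zero.2 (inv_ne_zero hε0)) using 1
  match_scalars <;> field_simp <;> ring

end

end Cfsg.Agent.H52.Un
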