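import Cfsg.Agent.H52.Un.Basic

/-!
# The radical of an isotropic point and the lifts to it
-/

set_option autoImplicit false
set_option maxHeartbeats 1000000
set_option linter.unusedSectionVars false

namespace Cfsg.Agent.H52.Un

open Cfsg Matrix
open Cfsg.Agent.Unitary

variable {F : Type*} [Field F] [Fintype F] {n k q : ℕ}

/-- A hyperbolic pair with an orthonormal basis of its perpendicular. -/
structure Fr (n : ℕ) (F : Type*) [Field F] (q k : ℕ) where
  /-- The isotropic axis. -/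
  u : Fin n → F
  /-- Its partner. -/
  v : Fin n → F
  /-- The basis of the perpendicular. -/
  E : Fin k → Fin n → F
  dim : n = k + 2
  uu : hermForm n F q u u = 0
  vv : hermForm n F q v v = 0
  vu : hermForm n F q v u = 1
  on : ON q E
  Eu : ∀ j, hermForm n F q (E j) u = 0
  Ev : ∀ j, hermForm n F q (E j) v = 0
  tot : ∀ x, hermForm n F q x u = 0 → hermForm n F q x v = 0 →
    (∀ j, hermForm n F q x (E j) = 0) → x = 0

theorem exists_fr (hF : Fintype.card F = q ^ 2) (hnk : n = k + 2) {u : Fin n → F} (hu0 : u ≠ 0)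
    (hu : hermForm n F q u u = 0) : ∃ fr : Fr n F q k, fr.u = u := by
  obtain ⟨v, -, hv, hvu⟩ := exists_partner hF (nondeg_top hF) Submodule.mem_top hu0 hu
  have huv : hermForm n F q u v ≠ 0 := by
    rw [← herm_swap hF v u, hvu, one_pow]; exact one_ne_zero
  have hP := nondeg_pair hF hu hv huv
  have hW : Nondeg q (perp q ({u, v} : Set (Fin n → F))) := by
    rw [← perp_span hF]; exact nondeg_perp hF hP
  have hd := finrank_perp_add hF hP
  rw [finrank_pair (indep_pair hF hu huv), perp_span hF] at hd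
  have hk : Module.finrank F (perp q ({u, v} : Set (Fin n → F))) = k := by omega
  obtain ⟨E, hE, hspan⟩ := exists_ON_basis hF _ hW
  revert E
  rw [hk]
  intro E hE hspan
  have hEW : ∀ j, E j ∈ perp q ({u, v} : Set (Fin n → F)) := fun j =>
    hspan ▸ Submodule.subset_span ⟨j, rfl⟩
  refine ⟨⟨u, v, E, hnk, hu, hv, hvu, hE, fun j => (mem_perp_pair.1 (hEW j)).1,
    fun j => (mem_perp_pair.1 (hEW j)).2, fun x h1 h2 h3 => ?_⟩, rfl⟩
  refine hW x (mem_perp_pair.2 ⟨h1, h2⟩) fun y hy => ?_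
  rw [← hspan] at hy
  obtain ⟨c, rfl⟩ := (Submodule.mem_span_range_iff_exists_fun F).1 hy
  rw [herm_sum_right hF]
  exact Finset.sum_eq_zero fun j _ => by rw [herm_smul_right, h3 j, mul_zero]

variable (fr : Fr n F q k)

theorem Fr.u_ne_zero (hF : Fintype.card F = q ^ 2) : fr.u ≠ 0 := fun h => by
  have := fr.vu
  rw [h, herm_zero_right hF] at this
  exact zero_ne_one this

section
variable (hF : Fintype.card F = q ^ 2)
include hF

theorem Fr.uv : hermForm n F q fr.u fr.v = 1 := by rw [← herm_swap hF fr.v fr.u, fr.vu, one_pow]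
theorem Fr.uE (j : Fin k) : hermForm n F q fr.u (fr.E j) = 0 := (herm_eq_zero_symm hF).1 (fr.Eu j)
theorem Fr.vE (j : Fin k) : hermForm n F q fr.v (fr.E j) = 0 := (herm_eq_zero_symm hF).1 (fr.Ev j)

theorem Fr.Em_u (c : Fin k → F) : hermForm n F q (Em fr.E *ᵥ c) fr.u = 0 := by
  rw [herm_Em_left hF, show Es q fr.E *ᵥ fr.u = 0 from funext fun j =>
    (Es_mulVec _ _ j).trans (fr.uE hF j), herm_zero_right hF]

theorem Fr.Em_v (c : Fin k → F) : hermForm n F q (Em fr.E *ᵥ c) fr.v = 0 := by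
  rw [herm_Em_left hF, show Es q fr.E *ᵥ fr.v = 0 from funext fun j =>
    (Es_mulVec _ _ j).trans (fr.vE hF j), herm_zero_right hF]

theorem Fr.decomp (x : Fin n → F) :
    x = hermForm n F q x fr.v • fr.u + hermForm n F q x fr.u • fr.v + Em fr.E *ᵥ (Es q fr.E *ᵥ x) := by
  refine sub_eq_zero.1 (fr.tot _ ?_ ?_ fun j => ?_)
  · simp only [herm_sub_left, herm_add_left, herm_smul_left, fr.uu, fr.vu, fr.Em_u hF, mul_zero,
      mul_one, add_zero, zero_add, sub_self]
  · simp only [herm_sub_left, herm_add_left, herm_smul_left, fr.uv hF, fr.vv, fr.Em_v hF, mul_zero,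
      mul_one, add_zero, sub_self]
  · simp only [herm_sub_left, herm_add_left, herm_smul_left, fr.uE hF, fr.vE hF, mul_zero,
      zero_add]
    rw [← Es_mulVec fr.E (Em fr.E *ᵥ _), Es_Em hF fr.on, Es_mulVec, sub_self]

theorem Fr.spec {c : Fin k → F} {α : F} (h : α + α ^ q + hermForm k F q c c = 0) :
    ESpec q fr.u (Em fr.E *ᵥ c) α :=
  ⟨fr.uu, fr.Em_u hF c, by rw [herm_Em_Em hF fr.on]; exact h⟩

end

/-- Elements of the unipotent radical of the point. -/
def Fr.eQ (hF : Fintype.card F = q ^ 2) {c : Fin k → F} {α : F}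
    (h : α + α ^ q + hermForm k F q c c = 0) : SU n F q := eSU hF (fr.spec hF h)

theorem Fr.eQ_congr (hF : Fintype.card F = q ^ 2) {c c' : Fin k → F} {α α' : F} (hc : c = c')
    (hα : α = α') (h : α + α ^ q + hermForm k F q c c = 0)
    (h' : α' + α' ^ q + hermForm k F q c' c' = 0) : fr.eQ hF h = fr.eQ hF h' := by
  subst hc hα
  rfl

theorem Fr.ap_eQ_v (hF : Fintype.card F = q ^ 2) {c : Fin k → F} {α : F}
    (h : α + α ^ q + hermForm k F q c c = 0) :
    ap (fr.eQ hF h) fr.v = fr.v + Em fr.E *ᵥ c + α • fr.u := by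
  rw [Fr.eQ, ap_eSU, fr.vu, (herm_eq_zero_symm hF).1 (fr.Em_v hF c)]
  module

theorem Fr.ap_eQ_u (hF : Fintype.card F = q ^ 2) {c : Fin k → F} {α : F}
    (h : α + α ^ q + hermForm k F q c c = 0) : ap (fr.eQ hF h) fr.u = fr.u := by
  rw [Fr.eQ, ap_eSU, fr.uu, (herm_eq_zero_symm hF).1 (fr.Em_u hF c)]
  simp

theorem okP_add (hF : Fintype.card F = q ^ 2) {c d : Fin k → F} {α β : F}
    (h : α + α ^ q + hermForm k F q c c = 0) (h' : β + β ^ q + hermForm k F q d d = 0) :
    (α + β - hermForm k F q d c) + (α + β - hermForm k F q d c) ^ q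
      + hermForm k F q (c + d) (c + d) = 0 := by
  rw [herm_self_add hF, sub_pow_q hF, add_pow_q hF, herm_swap hF d c]
  have e : hermForm k F q c d ^ q = hermForm k F q d c := herm_swap hF c d
  rw [← e]
  linear_combination h + h'

theorem okP_neg (hF : Fintype.card F = q ^ 2) {c : Fin k → F} {α : F}
    (h : α + α ^ q + hermForm k F q c c = 0) :
    α ^ q + (α ^ q) ^ q + hermForm k F q (-c) (-c) = 0 := by
  rw [pow_q_q hF, herm_neg_left, herm_neg_right hF, neg_neg]
  linear_combination h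

theorem okP_zero (hF : Fintype.card F = q ^ 2) :
    (0 : F) + (0 : F) ^ q + hermForm k F q (0 : Fin k → F) 0 = 0 := by
  simp [q_ne_zero hF, herm_zero_left]

theorem Fr.eQ_mul (hF : Fintype.card F = q ^ 2) {c d : Fin k → F} {α β : F}
    (h : α + α ^ q + hermForm k F q c c = 0) (h' : β + β ^ q + hermForm k F q d d = 0) :
    fr.eQ hF h * fr.eQ hF h' = fr.eQ hF (okP_add hF h h') := by
  unfold Fr.eQ
  have hw : Em fr.E *ᵥ c + Em fr.E *ᵥ d = Em fr.E *ᵥ (c + d) := (mulVec_add _ _ _).symm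
  have hα : hermForm n F q (Em fr.E *ᵥ d) (Em fr.E *ᵥ c) = hermForm k F q d c :=
    herm_Em_Em hF fr.on d c
  rw [eSU_mul hF (fr.spec hF h) (fr.spec hF h') (eSpec_add hF (fr.spec hF h) (fr.spec hF h'))]
  exact eSU_eq_of_eMat hF _ _ fun x => by rw [ap_eSU, ap_eSU, hw, hα]

theorem Fr.eQ_zero (hF : Fintype.card F = q ^ 2) : fr.eQ hF (okP_zero (k := k) hF) = 1 := by
  refine ap_ext fun x => ?_
  rw [Fr.eQ, ap_eSU, ap_one, mulVec_zero, herm_zero_right hF]
  simp

theorem Fr.eQ_inv (hF : Fintype.card F = q ^ 2) {c : Fin k → F} {α : F}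
    (h : α + α ^ q + hermForm k F q c c = 0) : (fr.eQ hF h)⁻¹ = fr.eQ hF (okP_neg hF h) := by
  refine inv_eq_of_mul_eq_one_right ?_
  rw [fr.eQ_mul, ← fr.eQ_zero hF]
  refine fr.eQ_congr hF (add_neg_cancel c) ?_ _ _
  rw [herm_neg_left]
  linear_combination h

theorem Fr.emb_conj (hF : Fintype.card F = q ^ 2) (A : SU k F q) {c : Fin k → F} {α : F}
    (h : α + α ^ q + hermForm k F q c c = 0)
    (h' : α + α ^ q + hermForm k F q (ap A c) (ap A c) = 0) :
    emb hF fr.on A * fr.eQ hF h = fr.eQ hF h' * emb hF fr.on A := by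
  have hu : ap (emb hF fr.on A) fr.u = fr.u := ap_emb_of_orth hF fr.on A (fr.uE hF)
  rw [← mul_inv_eq_iff_eq_mul]
  unfold Fr.eQ
  rw [conj_eSU hF _ (fr.spec hF h) (eSpec_ap _ (fr.spec hF h))]
  exact eSU_eq_of_eMat hF _ _ fun x => by rw [ap_eSU, ap_eSU, hu, ap_emb_Em]

theorem okP_ap {A : SU k F q} {c : Fin k → F} {α : F} (h : α + α ^ q + hermForm k F q c c = 0) :
    α + α ^ q + hermForm k F q (ap A c) (ap A c) = 0 := by rw [herm_ap]; exact h

/-- Elements fixing the axis. -/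
theorem Fr.exists_factor (hF : Fintype.card F = q ^ 2) {g : SU n F q} (hg : ap g fr.u = fr.u) :
    ∃ (c : Fin k → F) (α : F) (h : α + α ^ q + hermForm k F q c c = 0) (A : SU k F q),
      g = fr.eQ hF h * emb hF fr.on A := by
  set c := Es q fr.E *ᵥ ap g fr.v with hc
  set α := hermForm n F q (ap g fr.v) fr.v with hα
  have h1 : hermForm n F q (ap g fr.v) fr.u = 1 := by
    conv_lhs => rw [← hg]
    rw [herm_ap, fr.vu]
  have hgv : ap g fr.v = α • fr.u + fr.v + Em fr.E *ᵥ c := by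
    conv_lhs => rw [fr.decomp hF (ap g fr.v), h1, one_smul]
  have h : α + α ^ q + hermForm k F q c c = 0 := by
    have e := herm_ap g fr.v fr.v
    rw [fr.vv, hgv] at e
    simp only [herm_add_left, herm_add_right hF, herm_smul_left, herm_smul_right, fr.uu, fr.vv,
      fr.vu, fr.uv hF, fr.Em_u hF, fr.Em_v hF, herm_Em_Em hF fr.on,
      (herm_eq_zero_symm hF).1 (fr.Em_u hF c), (herm_eq_zero_symm hF).1 (fr.Em_v hF c),
      mul_zero, mul_one, add_zero, zero_add] at e
    linear_combination e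
  have hgfix : ∀ x, (∀ j, hermForm n F q x (fr.E j) = 0) →
      ap ((fr.eQ hF h)⁻¹ * g) x = x := by
    intro x hx
    have hev : ap (fr.eQ hF h)⁻¹ (ap g fr.v) = fr.v := by
      rw [show ap g fr.v = ap (fr.eQ hF h) fr.v by rw [fr.ap_eQ_v, hgv]; abel, ap_inv_ap]
    have heu : ap (fr.eQ hF h)⁻¹ fr.u = fr.u := by
      conv_lhs => rw [← fr.ap_eQ_u hF h]
      exact ap_inv_ap _ _
    rw [fr.decomp hF x, show Es q fr.E *ᵥ x = 0 from funext fun j => (Es_mulVec _ _ j).trans (hx j),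
      mulVec_zero, add_zero]
    simp only [ap_mul, ap_add, ap_smul, hg, heu, hev]
  obtain ⟨A, hA⟩ := exists_emb hF fr.on _ hgfix
  exact ⟨c, α, h, A, by rw [hA, mul_inv_cancel_left]⟩

theorem Fr.factor_inj (hF : Fintype.card F = q ^ 2) {c c' : Fin k → F} {α α' : F}
    {A A' : SU k F q} (h : α + α ^ q + hermForm k F q c c = 0)
    (h' : α' + α' ^ q + hermForm k F q c' c' = 0)
    (he : fr.eQ hF h * emb hF fr.on A = fr.eQ hF h' * emb hF fr.on A') :
    c = c' ∧ α = α' ∧ A = A' := by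
  have e := congrArg (fun g => ap g fr.v) he
  simp only [ap_mul, ap_emb_of_orth hF fr.on _ (fr.vE hF), fr.ap_eQ_v] at e
  have e1 := congrArg (Es q fr.E *ᵥ ·) e
  have hu : Es q fr.E *ᵥ fr.u = 0 := funext fun j => (Es_mulVec _ _ j).trans (fr.uE hF j)
  simp only [mulVec_add, mulVec_smul, Es_Em hF fr.on, hu, smul_zero, add_zero, add_right_inj] at e1
  subst e1
  have e2 : α = α' := smul_left_injective F (fr.u_ne_zero hF) (add_left_cancel e)
  subst e2
  exact ⟨rfl, rfl, emb_injective hF fr.on (mul_left_cancel he)⟩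

end Cfsg.Agent.H52.Un
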