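import Cfsg.Agent.H52.Un.Closure

/-!
# Growing a subspace of members
-/

set_option autoImplicit false
set_option maxHeartbeats 1000000
set_option linter.unusedSectionVars false

namespace Cfsg.Agent.H52.Un

open Cfsg Matrix
open Cfsg.Agent.Unitary

variable {F : Type*} [Field F] [Fintype F] {n k q : ℕ}
variable {hF : Fintype.card F = q ^ 2} {H : Subgroup (SU n F q)}

/-- The isotropic vectors of `W` are members. -/
def IsoIn (hF : Fintype.card F = q ^ 2) (H : Subgroup (SU n F q))
    (W : Submodule F (Fin n → F)) : Prop :=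
  ∀ x ∈ W, hermForm n F q x x = 0 → InS hF H x

theorem disjoint_perp (hF : Fintype.card F = q ^ 2) {W : Submodule F (Fin n → F)} (hW : Nondeg q W)
    {x : Fin n → F} (hx : x ∈ W) (hx' : x ∈ perp q (W : Set (Fin n → F))) : x = 0 :=
  hW x hx fun y hy => hx' y hy

/-- One step inside a fibre. -/
theorem fibre_step (hn : n = k + 2) (hgood : Good hF k H) {W : Submodule F (Fin n → F)}
    (hW : Nondeg q W) (hiso : IsoIn hF H W) {x w w' : Fin n → F}
    (hx : x ∈ perp q (W : Set (Fin n → F))) (hx0 : x ≠ 0) (hw : w ∈ W) (hw' : w' ∈ W)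
    (hnorm : hermForm n F q w' w' = hermForm n F q w w)
    (hd : hermForm n F q (w' - w) (w' - w) = 0) (hS : InS hF H (w + x)) : InS hF H (w' + x) := by
  set z := w' - w with hz
  have hzW : z ∈ W := W.sub_mem hw' hw
  by_cases hz0 : z = 0
  · rwa [sub_eq_zero.1 (hz.symm.trans hz0)]
  have hwz : w' = w + z := (add_sub_cancel w w').symm
  have htr : hermForm n F q w z + hermForm n F q w z ^ q = 0 := by
    have h1 : hermForm n F q (w + z) (w + z) = hermForm n F q w w := by rw [← hwz, hnorm]
    rw [herm_self_add hF, hd] at h1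
    linear_combination h1
  have hyz : hermForm n F q (w + x) z = hermForm n F q w z := by
    rw [herm_add_left, hx z hzW, add_zero]
  have hzS : InS hF H z := hiso z hzW hd
  have hgoal : w' + x = w + x + (1 : F) • z := by rw [hwz, one_smul]; abel
  rw [hgoal]
  by_cases h0 : hermForm n F q w z = 0
  · refine InS.line hn hgood hS hzS (hyz.trans h0) ?_ one_ne_zero
    rw [LinearIndependent.pair_iff]
    intro a b hab
    have hax : a • x = 0 := disjoint_perp hF hW (by
      rw [show a • x = -(a • w + b • z) by linear_combination (norm := module) hab]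
      exact W.neg_mem (W.add_mem (W.smul_mem a hw) (W.smul_mem b hzW)))
      ((perp q (W : Set (Fin n → F))).smul_mem a hx)
    rw [smul_eq_zero, or_iff_left hx0] at hax
    subst hax
    rw [zero_smul, zero_add, smul_eq_zero, or_iff_left hz0] at hab
    exact ⟨rfl, hab⟩
  · have hc : (hermForm n F q w z)⁻¹ + ((hermForm n F q w z)⁻¹) ^ q = 0 := by
      rw [inv_pow, eq_neg_of_add_eq_zero_right htr, inv_neg, add_neg_cancel]
    have := hS.move hzS hc
    rwa [hyz, inv_mul_cancel₀ h0] at this

/-- All vectors of a given norm occur over a given component. -/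
theorem fibre (hn : n = k + 2) (hgood : Good hF k H) {W : Submodule F (Fin n → F)}
    (hW : Nondeg q W) (h3 : 3 ≤ Module.finrank F W) (hiso : IsoIn hF H W) {x w w' : Fin n → F}
    (hx : x ∈ perp q (W : Set (Fin n → F))) (hx0 : x ≠ 0) (hw : w ∈ W) (hw' : w' ∈ W)
    (hnorm : hermForm n F q w' w' = hermForm n F q w w)
    (hS : InS hF H (w + x)) : InS hF H (w' + x) := by
  set c₀ := hermForm n F q w w with hc₀
  by_cases hc0 : c₀ = 0
  · have h1 : InS hF H (0 + x) := fibre_step hn hgood hW hiso hx hx0 hw W.zero_mem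
      (by rw [herm_zero_left, ← hc₀, hc0]) (by rw [zero_sub, herm_neg_left, herm_neg_right hF, neg_neg, ← hc₀, hc0]) hS
    exact fibre_step hn hgood hW hiso hx hx0 W.zero_mem hw'
      (by rw [hnorm, hc0, herm_zero_left]) (by rw [sub_zero, hnorm, hc0]) h1
  have hcf : c₀ ^ q = c₀ := herm_self_fixed hF w
  -- through an intermediate vector, for independent vectors
  have key : ∀ {a b : Fin n → F}, a ∈ W → b ∈ W → hermForm n F q a a = c₀ →
      hermForm n F q b b = c₀ → LinearIndependent F ![a, b] → InS hF H (a + x) →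
      InS hF H (b + x) := by
    intro a b ha hb haa hbb hind hSa
    obtain ⟨k0, hk0W, hk00, hka, hkb⟩ : ∃ k0 ∈ W, k0 ≠ 0 ∧ hermForm n F q k0 a = 0 ∧
        hermForm n F q k0 b = 0 := by
      let f : W →ₗ[F] (F × F) := ((hermL n q a).prod (hermL n q b)).comp W.subtype
      have h := LinearMap.finrank_range_add_finrank_ker f
      have hr : Module.finrank F (LinearMap.range f) ≤ 2 :=
        (Submodule.finrank_le _).trans (by simp)
      obtain ⟨y, hy, hy0⟩ := Submodule.exists_mem_ne_zero_of_ne_bot
        (p := LinearMap.ker f) fun hb' => by rw [hb', finrank_bot] at h; omega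
      refine ⟨y.1, y.2, fun h => hy0 (Subtype.ext h), ?_, ?_⟩
      · exact congrArg Prod.fst (LinearMap.mem_ker.1 hy)
      · exact congrArg Prod.snd (LinearMap.mem_ker.1 hy)
    have hak := (herm_eq_zero_symm hF).1 hka
    have hbk := (herm_eq_zero_symm hF).1 hkb
    -- the vector with the required products
    suffices ∃ z ∈ W, hermForm n F q z z = c₀ ∧
        hermForm n F q z a + hermForm n F q z a ^ q = c₀ + c₀ ∧
        hermForm n F q z b + hermForm n F q z b ^ q = c₀ + c₀ by
      obtain ⟨z, hzW, hzz, hza, hzb⟩ := this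
      have hd : ∀ {y : Fin n → F}, hermForm n F q y y = c₀ →
          hermForm n F q z y + hermForm n F q z y ^ q = c₀ + c₀ →
          hermForm n F q (z - y) (z - y) = 0 := by
        intro y hyy hzy
        rw [herm_sub_left, herm_sub_right hF, herm_sub_right hF, hzz, hyy, ← herm_swap hF z y]
        linear_combination -hzy
      have h1 := fibre_step hn hgood hW hiso hx hx0 ha hzW (by rw [hzz, haa]) (hd haa hza) hSa
      refine fibre_step hn hgood hW hiso hx hx0 hzW hb (by rw [hzz, hbb]) ?_ h1
      rw [show b - z = -(z - b) by abel, herm_neg_left, herm_neg_right hF, neg_neg]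
      exact hd hbb hzb
    by_cases hspan : ∃ s t : F, k0 = s • a + t • b
    · obtain ⟨s, t, hk⟩ := hspan
      have hkk : hermForm n F q k0 k0 = 0 := by
        conv_lhs => arg 4; rw [hk]
        rw [herm_add_left, herm_smul_left, herm_smul_left, hak, hbk]; ring
      have ht : t ≠ 0 := by
        rintro rfl
        rw [zero_smul, add_zero] at hk
        rw [hk, herm_smul_left, haa, mul_eq_zero, or_iff_left hc0] at hka
        exact hk00 (by rw [hk, hka, zero_smul])
      obtain ⟨δ, hδ0, hδ⟩ := exists_skew hF
      obtain ⟨σ, hσ, hne⟩ : ∃ σ : F, σ + σ ^ q = 0 ∧ s ^ q * c₀ + t ^ q * (c₀ + σ) ≠ 0 := by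
        by_contra h
        push Not at h
        have h1 := h 0 (by rw [zero_pow (q_ne_zero hF), add_zero])
        have h2 := h δ (by rw [hδ, add_neg_cancel])
        have : t ^ q * δ = 0 := by linear_combination h2 - h1
        rcases mul_eq_zero.1 this with h' | h'
        · exact pow_ne_zero _ ht h'
        · exact hδ0 h'
      obtain ⟨z0, hz0W, hz0⟩ := exists_herm_eq_mem hF hW hind
        (Fin.forall_fin_two.2 ⟨ha, hb⟩) ![c₀, c₀ + σ]
      obtain ⟨hz0a, hz0b⟩ := Fin.forall_fin_two.1 hz0
      simp only [Matrix.cons_val_zero, Matrix.cons_val_one] at hz0a hz0b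
      have hz0k : hermForm n F q z0 k0 ≠ 0 := by
        rwa [hk, herm_add_right hF, herm_smul_right, herm_smul_right, hz0a, hz0b]
      have hkz : hermForm n F q k0 z0 ≠ 0 := fun h => hz0k ((herm_eq_zero_symm hF).1 h)
      obtain ⟨l, hl⟩ := exists_trace_eq hF (a := c₀ - hermForm n F q z0 z0)
        (by rw [sub_pow_q hF, hcf, herm_self_fixed hF])
      refine ⟨z0 + (l / hermForm n F q k0 z0) • k0, W.add_mem hz0W (W.smul_mem _ hk0W), ?_, ?_, ?_⟩
      · rw [herm_self_add hF, herm_self_smul, hkk, mul_zero, add_zero,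
          ← herm_swap hF ((l / hermForm n F q k0 z0) • k0) z0, herm_smul_left, div_mul_cancel₀ _ hkz, pow_q_q hF]
        linear_combination hl
      · rw [herm_add_left, herm_smul_left, hka, mul_zero, add_zero, hz0a, hcf]
      · rw [herm_add_left, herm_smul_left, hkb, mul_zero, add_zero, hz0b, add_pow_q hF, hcf]
        linear_combination hσ
    · push Not at hspan
      have hind3 : LinearIndependent F ![a, b, k0] := by
        rw [Fintype.linearIndependent_iff]
        intro g hg
        rw [Fin.sum_univ_three] at hg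
        simp only [Matrix.cons_val_zero, Matrix.cons_val_one, Matrix.cons_val] at hg
        have h2 : g 2 = 0 := by
          by_contra h2
          refine hspan (-(g 0 / g 2)) (-(g 1 / g 2)) ?_
          have := congrArg ((g 2)⁻¹ • ·) hg
          simp only [smul_add, smul_smul, smul_zero, inv_mul_cancel₀ h2, one_smul] at this
          rw [div_eq_inv_mul, div_eq_inv_mul]
          linear_combination (norm := module) this
        rw [h2, zero_smul, add_zero] at hg
        obtain ⟨e0, e1⟩ := LinearIndependent.pair_iff.1 hind _ _ hg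
        intro i; fin_cases i <;> assumption
      have hmem : ∀ i : Fin 3, ![a, b, k0] i ∈ W := by
        intro i; fin_cases i <;> assumption
      by_cases hkk : hermForm n F q k0 k0 = 0
      · obtain ⟨z0, hz0W, hz0⟩ := exists_herm_eq_mem hF hW hind3 hmem ![c₀, c₀, 1]
        have hz0a := hz0 0; have hz0b := hz0 1; have hz0k := hz0 2
        simp only [Matrix.cons_val_zero, Matrix.cons_val_one, Matrix.cons_val] at hz0a hz0b hz0k
        obtain ⟨l, hl⟩ := exists_trace_eq hF (a := c₀ - hermForm n F q z0 z0)
          (by rw [sub_pow_q hF, hcf, herm_self_fixed hF])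
        refine ⟨z0 + l • k0, W.add_mem hz0W (W.smul_mem _ hk0W), ?_, ?_, ?_⟩
        · rw [herm_self_add hF, herm_self_smul, hkk, mul_zero, add_zero, herm_smul_right, hz0k,
            mul_one, pow_q_q hF]
          linear_combination hl
        · rw [herm_add_left, herm_smul_left, hka, mul_zero, add_zero, hz0a, hcf]
        · rw [herm_add_left, herm_smul_left, hkb, mul_zero, add_zero, hz0b, hcf]
      · obtain ⟨z0, hz0W, hz0⟩ := exists_herm_eq_mem hF hW hind3 hmem ![c₀, c₀, 0]
        have hz0a := hz0 0; have hz0b := hz0 1; have hz0k := hz0 2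
        simp only [Matrix.cons_val_zero, Matrix.cons_val_one, Matrix.cons_val] at hz0a hz0b hz0k
        obtain ⟨l, hl⟩ := exists_norm_eq hF
          (a := (c₀ - hermForm n F q z0 z0) / hermForm n F q k0 k0)
          (by rw [div_pow, sub_pow_q hF, hcf, herm_self_fixed hF, herm_self_fixed hF])
        refine ⟨z0 + l • k0, W.add_mem hz0W (W.smul_mem _ hk0W), ?_, ?_, ?_⟩
        · rw [herm_self_add hF, herm_self_smul, hl, div_mul_cancel₀ _ hkk, herm_smul_right, hz0k,
            mul_zero, zero_pow (q_ne_zero hF)]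
          ring
        · rw [herm_add_left, herm_smul_left, hka, mul_zero, add_zero, hz0a, hcf]
        · rw [herm_add_left, herm_smul_left, hkb, mul_zero, add_zero, hz0b, hcf]
  have hw0 : w ≠ 0 := fun h => hc0 (by rw [hc₀, h, herm_zero_left])
  by_cases hind : LinearIndependent F ![w, w']
  · exact key hw hw' rfl hnorm hind hS
  rw [LinearIndependent.pair_iff' hw0] at hind
  push Not at hind
  obtain ⟨a, ha⟩ := hind
  have ha0 : a ≠ 0 := by
    rintro rfl
    rw [zero_smul] at ha
    rw [← ha, herm_zero_left] at hnorm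
    exact hc0 hnorm.symm
  obtain ⟨z, hzW, hz0, hzz, hzw⟩ : ∃ z ∈ W, z ≠ 0 ∧ hermForm n F q z z = 0 ∧
      hermForm n F q z w = 0 := by
    obtain ⟨l, hl⟩ := exists_norm_eq hF hcf
    have hl0 : l ≠ 0 := by rintro rfl; exact hc0 (by rw [← hl, zero_mul])
    have hw1 : hermForm n F q (l⁻¹ • w) (l⁻¹ • w) = 1 := by
      rw [herm_self_smul, inv_pow, ← mul_inv, hl, ← hc₀, inv_mul_cancel₀ hc0]
    have hon : ON q (fun _ : Fin 1 => l⁻¹ • w) := fun i j => by
      rw [if_pos (Subsingleton.elim i j), hw1]
    have hP : Submodule.span F (Set.range fun _ : Fin 1 => l⁻¹ • w) ≤ W := by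
      rw [Submodule.span_le]; rintro _ ⟨i, rfl⟩; exact W.smul_mem _ hw
    have hd := inf_perp_finrank hF hon.nondeg hP
    rw [hon.finrank_span, Fintype.card_fin] at hd
    obtain ⟨z, ⟨hz, hzp⟩, hz0, hzz⟩ :=
      exists_isotropic hF (inf_perp_nondeg hF hW hon.nondeg hP) (by omega)
    refine ⟨z, hz, hz0, hzz, ?_⟩
    have h := hzp (l⁻¹ • w) (Submodule.subset_span ⟨0, rfl⟩)
    rw [herm_smul_right, mul_eq_zero, or_iff_right (pow_ne_zero _ (inv_ne_zero hl0))] at h
    exact h
  have hwz := (herm_eq_zero_symm hF).1 hzw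
  have hnz : hermForm n F q (w + z) (w + z) = c₀ := by
    rw [herm_self_add hF, hzz, hwz, zero_pow (q_ne_zero hF), ← hc₀]; ring
  have hwzind : LinearIndependent F ![w, w + z] := by
    rw [LinearIndependent.pair_iff' hw0]
    intro s hs
    have : z = (s - 1) • w := by rw [sub_smul, one_smul, hs]; abel
    rw [this, herm_smul_left, mul_eq_zero] at hzw
    rcases hzw with h | h
    · exact hz0 (by rw [this, h, zero_smul])
    · exact hc0 h
  have hwzind' : LinearIndependent F ![w + z, w'] := by
    rw [LinearIndependent.pair_iff] at hwzind ⊢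
    intro s t hst
    obtain ⟨h1, h2⟩ := hwzind (t * a) s (by rw [← hst, ← ha]; module)
    exact ⟨h2, (mul_eq_zero.1 h1).resolve_right ha0⟩
  exact key (W.add_mem hw hzW) hw' hnz hnorm hwzind'
    (key hw (W.add_mem hw hzW) rfl hnz hwzind hS)

theorem no_TI_plane (hF : Fintype.card F = q ^ 2) {C : Submodule F (Fin n → F)} (hC : Nondeg q C)
    (h3 : Module.finrank F C ≤ 3) {x y : Fin n → F} (hx : x ∈ C) (hy : y ∈ C)
    (hxx : hermForm n F q x x = 0) (hyy : hermForm n F q y y = 0)
    (hyx : hermForm n F q y x = 0) (hx0 : x ≠ 0) : ∃ a : F, y = a • x := by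
  by_contra h
  push Not at h
  have hind : LinearIndependent F ![x, y] := by
    rw [LinearIndependent.pair_iff' hx0]
    exact fun a ha => h a ha.symm
  let f : C →ₗ[F] (Fin 2 → F) :=
    LinearMap.pi fun i : Fin 2 => (hermL n q (![x, y] i)).comp C.subtype
  have hsurj : LinearMap.range f = ⊤ := LinearMap.range_eq_top.2 fun t => by
    obtain ⟨z, hz, hzt⟩ := exists_herm_eq_mem hF hC hind (Fin.forall_fin_two.2 ⟨hx, hy⟩) t
    exact ⟨⟨z, hz⟩, funext hzt⟩
  have h1 := LinearMap.finrank_range_add_finrank_ker f
  rw [hsurj, finrank_top, Module.finrank_fin_fun] at h1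
  have hxy := (herm_eq_zero_symm hF).1 hyx
  let P : Submodule F C := Submodule.span F (Set.range ![(⟨x, hx⟩ : C), ⟨y, hy⟩])
  have hP : P ≤ LinearMap.ker f := by
    rw [Submodule.span_le]
    rintro _ ⟨i, rfl⟩
    refine LinearMap.mem_ker.2 (funext fun j => ?_)
    fin_cases i <;> fin_cases j <;> simp [f, hermL_apply, hxx, hyy, hxy, hyx]
  have h2 : Module.finrank F P = 2 := by
    refine (finrank_span_eq_card ?_).trans (Fintype.card_fin 2)
    refine LinearIndependent.of_comp C.subtype ?_
    have e : C.subtype ∘ ![(⟨x, hx⟩ : C), ⟨y, hy⟩] = ![x, y] := by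
      funext i; fin_cases i <;> rfl
    rwa [e]
  have := Submodule.finrank_mono hP
  omega

/-- The outcome: everything, a fixed isotropic point, or a fixed small non-degenerate subspace. -/
theorem grow (hn : n = k + 2) (hgood : Good hF k H) (d : ℕ) :
    ∀ W : Submodule F (Fin n → F), n ≤ Module.finrank F W + d → Nondeg q W →
      3 ≤ Module.finrank F W → n ≤ Module.finrank F W + 3 → IsoIn hF H W →
      (∀ x, hermForm n F q x x = 0 → InS hF H x) ∨
      (∃ x : Fin n → F, x ≠ 0 ∧ hermForm n F q x x = 0 ∧ ∀ g ∈ H, ∃ a : F, ap g x = a • x) ∨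
      (∃ C : Submodule F (Fin n → F), Nondeg q C ∧ 1 ≤ Module.finrank F C ∧
        Module.finrank F C ≤ 3 ∧ ∀ g ∈ H, ∀ x ∈ C, ap g x ∈ C) := by
  induction d with
  | zero =>
    intro W hd _ _ _ hiso
    left
    have : W = ⊤ := Submodule.eq_top_of_finrank_eq (by
      rw [Module.finrank_fin_fun]
      have := W.finrank_le
      rw [Module.finrank_fin_fun] at this
      omega)
    exact fun x hx => hiso x (this ▸ Submodule.mem_top) hx
  | succ d ih =>
    intro W hd hW h3 hc hiso
    have hcompl := isCompl_perp hF hW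
    set C := perp q (W : Set (Fin n → F)) with hCdef
    have hC : Nondeg q C := nondeg_perp hF hW
    have hdimC : Module.finrank F W + Module.finrank F C = n := finrank_perp_add hF hW
    by_cases hgrow : ∃ w ∈ W, ∃ x ∈ C, hermForm n F q x x ≠ 0 ∧ InS hF H (w + x)
    · obtain ⟨w, hw, x, hx, hxx, hS⟩ := hgrow
      have hx0 : x ≠ 0 := fun h => hxx (by rw [h, herm_zero_left])
      have hxW : ∀ y ∈ W, hermForm n F q x y = 0 := fun y hy => hx y hy
      refine ih (W ⊔ Submodule.span F {x}) ?_ ?_ ?_ ?_ ?_
      rotate_left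
      · intro u hu h
        obtain ⟨y, hy, z, hz, rfl⟩ := Submodule.mem_sup.1 hu
        obtain ⟨a, rfl⟩ := Submodule.mem_span_singleton.1 hz
        have h1 := h x (Submodule.mem_sup_right (Submodule.mem_span_singleton_self x))
        rw [herm_add_left, herm_smul_left, (herm_eq_zero_symm hF).1 (hxW y hy), zero_add,
          mul_eq_zero, or_iff_left hxx] at h1
        subst h1
        rw [zero_smul, add_zero] at h ⊢
        exact hW y hy fun z hz => h z (Submodule.mem_sup_left hz)
      · exact le_trans h3 (Submodule.finrank_mono le_sup_left)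
      · exact le_trans hc (Nat.add_le_add_right (Submodule.finrank_mono le_sup_left) _)
      · intro u hu huu
        obtain ⟨y, hy, z, hz, rfl⟩ := Submodule.mem_sup.1 hu
        obtain ⟨a, rfl⟩ := Submodule.mem_span_singleton.1 hz
        by_cases ha : a = 0
        · subst ha; rw [zero_smul, add_zero] at huu ⊢; exact hiso y hy huu
        have hS' : InS hF H (a • w + a • x) := by rw [← smul_add]; exact hS.smul a
        refine fibre hn hgood hW h3 hiso (C.smul_mem a hx) (smul_ne_zero ha hx0)
          (W.smul_mem a hw) hy ?_ hS'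
        have e1 := hS'.iso
        have h1 : ∀ s ∈ W, hermForm n F q (a • x) s = 0 := fun s hs =>
          (C.smul_mem a hx : a • x ∈ C) s hs
        rw [herm_self_add hF, (herm_eq_zero_symm hF).1 (h1 _ (W.smul_mem a hw))] at e1
        rw [herm_self_add hF, (herm_eq_zero_symm hF).1 (h1 y hy)] at huu
        linear_combination huu - e1
      · have : Module.finrank F W + 1 ≤ Module.finrank F ↥(W ⊔ Submodule.span F {x}) := by
          refine Submodule.finrank_lt_finrank_of_lt (lt_of_le_of_ne le_sup_left fun e => hx0 ?_)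
          exact disjoint_perp hF hW
            (e ▸ Submodule.mem_sup_right (Submodule.mem_span_singleton_self x)) hx
        omega
    push Not at hgrow
    have hC3 : Module.finrank F C ≤ 3 := by omega
    have hdec : ∀ s, ∃ w ∈ W, ∃ x ∈ C, s = w + x := fun s => by
      obtain ⟨a, ha, b, hb, e⟩ :=
        Submodule.mem_sup.1 (hcompl.sup_eq_top.symm ▸ Submodule.mem_top (x := s))
      exact ⟨a, ha, b, hb, e.symm⟩
    have hcompiso : ∀ w ∈ W, ∀ x ∈ C, InS hF H (w + x) → hermForm n F q x x = 0 :=
      fun w hw x hx hS => by_contra fun h => hgrow w hw x hx h hS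
    have hfib : ∀ w ∈ W, ∀ x ∈ C, InS hF H (w + x) → x ≠ 0 →
        ∀ y ∈ W, hermForm n F q y y = 0 → InS hF H (y + x) := by
      intro w hw x hx hS hx0 y hy hyy
      refine fibre hn hgood hW h3 hiso hx hx0 hw hy ?_ hS
      have e1 := hS.iso
      rw [herm_self_add hF, hcompiso w hw x hx hS,
        (herm_eq_zero_symm hF).1 (hx w hw), zero_pow (q_ne_zero hF)] at e1
      rw [hyy]
      linear_combination -e1
    have horth : ∀ w ∈ W, ∀ x ∈ C, InS hF H (w + x) → ∀ w' ∈ W, ∀ x' ∈ C, InS hF H (w' + x') →
        hermForm n F q x' x = 0 := by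
      intro w hw x hx hS w' hw' x' hx' hS'
      by_contra hne
      have hxx := hcompiso w hw x hx hS
      have hxx' := hcompiso w' hw' x' hx' hS'
      have hx0 : x ≠ 0 := fun h => hne (by rw [h, herm_zero_right hF])
      have hx0' : x' ≠ 0 := fun h => hne (by rw [h, herm_zero_left])
      obtain ⟨z, hzW, hz0, hz⟩ := exists_isotropic hF hW (by omega)
      obtain ⟨v, hvW, hv, hvz⟩ := exists_partner hF hW hzW hz0 hz
      set c := hermForm n F q x' x with hcdef
      have hy2W : (-c) • v ∈ W := W.smul_mem _ hvW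
      have hS1 := hfib w hw x hx hS hx0 z hzW hz
      have hS2 := hfib w' hw' x' hx' hS' hx0' ((-c) • v) hy2W
        (by rw [herm_self_smul, hv, mul_zero])
      have hperp : hermForm n F q ((-c) • v + x') (z + x) = 0 := by
        rw [herm_add_left, herm_add_right hF, herm_add_right hF, (herm_eq_zero_symm hF).1 (hx _ hy2W),
          hx' z hzW, herm_smul_left, hvz]
        simp [hcdef]
      obtain ⟨t, ht⟩ := exists_trace_ne_zero hF
      obtain ⟨l, hl⟩ : ∃ l : F, l ^ q = t / c := ⟨_, pow_q_q hF _⟩
      have hl0 : l ≠ 0 := by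
        rintro rfl
        rw [zero_pow (q_ne_zero hF)] at hl
        rcases div_eq_zero_iff.1 hl.symm with h | h
        · exact ht (by rw [h, zero_pow (q_ne_zero hF), add_zero])
        · exact hne h
      have hind : LinearIndependent F ![(-c) • v + x', z + x] := by
        rw [LinearIndependent.pair_iff]
        intro a b hab
        have hab' : a • x' + b • x = 0 := disjoint_perp hF hW (by
          rw [show a • x' + b • x = -(a • ((-c) • v) + b • z) by
            linear_combination (norm := module) hab]
          exact W.neg_mem (W.add_mem (W.smul_mem a hy2W) (W.smul_mem b hzW)))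
          (C.add_mem (C.smul_mem a hx') (C.smul_mem b hx))
        have h1 := congrArg (fun s => hermForm n F q s x) hab'
        simp only [herm_add_left, herm_smul_left, hxx, mul_zero, add_zero, herm_zero_left] at h1
        rw [← hcdef, mul_eq_zero, or_iff_left hne] at h1
        subst h1
        rw [zero_smul, zero_add, smul_eq_zero, or_iff_left hx0] at hab'
        exact ⟨rfl, hab'⟩
      have hS3 := InS.line hn hgood hS2 hS1 hperp hind hl0
      rw [smul_add, show (-c) • v + x' + (l • z + l • x) = ((-c) • v + l • z) + (x' + l • x) by abel]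
        at hS3
      have h0 := hcompiso _ (W.add_mem hy2W (W.smul_mem l hzW)) _
        (C.add_mem hx' (C.smul_mem l hx)) hS3
      rw [herm_self_add hF, herm_self_smul, hxx', hxx, herm_smul_right, ← hcdef, hl,
        div_mul_cancel₀ _ hne] at h0
      exact ht (by linear_combination h0)
    have hWspan : ∀ g : SU n F q, ∀ P : Submodule F (Fin n → F),
        (∀ z ∈ W, hermForm n F q z z = 0 → ap g z ∈ P) → ∀ z ∈ W, ap g z ∈ P := fun g P h =>
      exists_add_isotropic hF hW (by omega) (p := fun z => ap g z ∈ P) h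
        fun a _ b _ ha hb => by rw [ap_add]; exact P.add_mem ha hb
    by_cases hex : ∃ w ∈ W, ∃ x ∈ C, x ≠ 0 ∧ InS hF H (w + x)
    · obtain ⟨w, hw, x, hx, hx0, hS⟩ := hex
      refine Or.inr (Or.inl ⟨x, hx0, hcompiso w hw x hx hS, ?_⟩)
      set U := W ⊔ Submodule.span F {x}
      have hxS : InS hF H x := by
        have := hfib w hw x hx hS hx0 0 W.zero_mem (herm_zero_left _)
        rwa [zero_add] at this
      have hmemU : ∀ s, InS hF H s → s ∈ U := by
        intro s hs
        obtain ⟨w', hw', x', hx', rfl⟩ := hdec s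
        obtain ⟨a, rfl⟩ := no_TI_plane hF hC hC3 hx hx' (hcompiso w hw x hx hS)
          (hcompiso w' hw' x' hx' hs) (horth w hw x hx hS w' hw' x' hx' hs) hx0
        exact U.add_mem (Submodule.mem_sup_left hw')
          (Submodule.mem_sup_right (Submodule.smul_mem _ a (Submodule.mem_span_singleton_self x)))
      have hinv : ∀ g ∈ H, ∀ s ∈ U, ap g s ∈ U := by
        intro g hg s hs
        obtain ⟨y, hy, z, hz, rfl⟩ := Submodule.mem_sup.1 hs
        obtain ⟨a, rfl⟩ := Submodule.mem_span_singleton.1 hz
        rw [ap_add, ap_smul]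
        exact U.add_mem (hWspan g U (fun z hz hzz => hmemU _ ((hiso z hz hzz).map hg)) y hy)
          (U.smul_mem a (hmemU _ (hxS.map hg)))
      have hperpU : ∀ s ∈ U, hermForm n F q x s = 0 := by
        intro s hs
        obtain ⟨y, hy, z, hz, rfl⟩ := Submodule.mem_sup.1 hs
        obtain ⟨a, rfl⟩ := Submodule.mem_span_singleton.1 hz
        rw [herm_add_right hF, hx y hy, herm_smul_right, hcompiso w hw x hx hS, mul_zero, add_zero]
      intro g hg
      obtain ⟨y, hy, z, hz, e⟩ := Submodule.mem_sup.1 (hinv g hg x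
        (Submodule.mem_sup_right (Submodule.mem_span_singleton_self x)))
      obtain ⟨a, rfl⟩ := Submodule.mem_span_singleton.1 hz
      refine ⟨a, ?_⟩
      have hy0 : y = 0 := hW y hy fun s hs => by
        have h1 : hermForm n F q (ap g x) s = 0 := by
          rw [← ap_ap_inv g s, herm_ap]
          exact hperpU _ (hinv g⁻¹ (H.inv_mem hg) s (Submodule.mem_sup_left hs))
        rw [← e, herm_add_left, herm_smul_left, hx s hs, mul_zero, add_zero] at h1
        exact h1
      rw [← e, hy0, zero_add]
    push Not at hex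
    have hmemW : ∀ s, InS hF H s → s ∈ W := by
      intro s hs
      obtain ⟨w', hw', x', hx', rfl⟩ := hdec s
      by_cases h : x' = 0
      · rwa [h, add_zero]
      · exact absurd hs (hex w' hw' x' hx' h)
    by_cases hC0 : Module.finrank F C = 0
    · left
      have : W = ⊤ := Submodule.eq_top_of_finrank_eq (by rw [Module.finrank_fin_fun]; omega)
      exact fun x hx => hiso x (this ▸ Submodule.mem_top) hx
    refine Or.inr (Or.inr ⟨C, hC, by omega, hC3, fun g hg x hx s hs => ?_⟩)
    rw [← ap_ap_inv g s, herm_ap]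
    exact hx _ (hWspan g⁻¹ W (fun z hz hzz => hmemW _ ((hiso z hz hzz).map (H.inv_mem hg))) s hs)

end Cfsg.Agent.H52.Un
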