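import Cfsg.Agent.H52.Un.Radical
import Mathlib.Algebra.Group.AddChar
import Mathlib.Analysis.Fourier.FiniteAbelian.PontryaginDuality

/-!
# Translation parts form an isotropic group
-/

set_option autoImplicit false
set_option maxHeartbeats 1000000
set_option linter.unusedSectionVars false

namespace Cfsg.Agent.H52.Un

open Cfsg Matrix
open Cfsg.Agent.Unitary

variable {F : Type*} [Field F] [Fintype F] {k q : ℕ}

/-- An additive group isotropic for the alternating form modulo `X` is small. -/
theorem card_sq_le_of_isotropic (hF : Fintype.card F = q ^ 2) (R : AddSubgroup (Fin k → F))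
    (X : AddSubgroup F) {z : F} (hz : z + z ^ q = 0) (hzX : z ∉ X)
    (hR : ∀ c ∈ R, ∀ d ∈ R, hermForm k F q c d - hermForm k F q d c ∈ X) :
    Nat.card R * Nat.card R ≤ q ^ (2 * k) := by
  classical
  obtain ⟨ψ, hψ⟩ := AddChar.exists_apply_ne_zero.2
    (show ((z : F ⧸ X)) ≠ 0 from fun h => hzX ((QuotientAddGroup.eq_zero_iff z).1 h))
  let β : (Fin k → F) → (Fin k → F) →+ F ⧸ X := fun c =>
    (QuotientAddGroup.mk' X).comp
      { toFun := fun d => hermForm k F q c d - hermForm k F q d c
        map_zero' := by rw [herm_zero_left, herm_zero_right hF, sub_zero]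
        map_add' := fun d d' => by rw [herm_add_left, herm_add_right hF]; ring }
  have hker : ∀ c ∈ R, R ≤ (β c).ker := fun c hc d hd =>
    (QuotientAddGroup.eq_zero_iff _).2 (hR c hc d hd)
  let f : R → AddChar ((Fin k → F) ⧸ R) ℂ := fun c =>
    ψ.compAddMonoidHom (QuotientAddGroup.lift R (β c.1) (hker c.1 c.2))
  have hf : Function.Injective f := by
    intro c c' h
    by_contra hne
    have hd : c.1 - c'.1 ≠ 0 := sub_ne_zero.2 fun e => hne (Subtype.ext e)
    set e := c.1 - c'.1 with he
    -- a vector on which the difference takes the value `z`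
    obtain ⟨a, ha⟩ : ∃ a : F, a - a ^ q = z := by
      obtain ⟨t, ht⟩ := exists_trace_ne_zero hF
      refine ⟨z * t / (t + t ^ q), ?_⟩
      have hzq : z ^ q = -z := eq_neg_of_add_eq_zero_right hz
      rw [div_pow, trace_pow_q hF, mul_pow, hzq, ← sub_div]
      field_simp
      ring
    obtain ⟨d, hdv⟩ := exists_herm_eq hF (b := fun _ : Fin 1 => e)
      (linearIndependent_unique_iff.2 hd) (fun _ => a ^ q)
    have h1 : hermForm k F q e d = a := by rw [← herm_swap hF d e, hdv 0, pow_q_q hF]
    have h2 := congrFun (congrArg DFunLike.coe h) ((d : (Fin k → F) ⧸ R))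
    simp only [f, AddChar.compAddMonoidHom_apply, QuotientAddGroup.lift_mk] at h2
    have h3 : β c.1 d = β c'.1 d + (z : F ⧸ X) := by
      show ((_ : F) : F ⧸ X) = ((_ : F) : F ⧸ X) + _
      rw [← QuotientAddGroup.mk_add]
      congr 1
      show hermForm k F q c.1 d - hermForm k F q d c.1 = hermForm k F q c'.1 d - hermForm k F q d c'.1 + z
      have e1 : hermForm k F q c.1 d = hermForm k F q c'.1 d + a := by
        rw [← h1, he, herm_sub_left]; ring
      have e2 : hermForm k F q d c.1 = hermForm k F q d c'.1 + a ^ q := by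
        rw [← hdv 0, he, herm_sub_right hF]; ring
      rw [e1, e2, ← ha]
      ring
    rw [h3, AddChar.map_add_eq_mul] at h2
    have hne0 : ψ (β c'.1 d) ≠ 0 := fun h => by
      have := AddChar.map_add_eq_mul ψ (β c'.1 d) (-β c'.1 d)
      rw [h, zero_mul, add_neg_cancel, AddChar.map_zero_eq_one] at this
      exact one_ne_zero this
    exact hψ (mul_left_cancel₀ hne0 (by rw [mul_one]; exact h2))
  haveI : Fintype ((Fin k → F) ⧸ R) := Fintype.ofFinite _
  have h1 := Nat.card_le_card_of_injective f hf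
  rw [Nat.card_eq_fintype_card (α := AddChar _ _), AddChar.card_eq, ← Nat.card_eq_fintype_card] at h1
  calc Nat.card R * Nat.card R ≤ Nat.card ((Fin k → F) ⧸ R) * Nat.card R :=
        Nat.mul_le_mul_right _ h1
    _ = Nat.card (Fin k → F) := (AddSubgroup.card_eq_card_quotient_mul_card_addSubgroup R).symm
    _ = q ^ (2 * k) := by
      rw [Nat.card_eq_fintype_card, Fintype.card_fun, Fintype.card_fin, hF, ← pow_mul]

/-- A group of vectors stable under `SU` is zero or everything. -/
theorem eq_top_of_stable (hF : Fintype.card F = q ^ 2) (hk : 3 ≤ k) (R : AddSubgroup (Fin k → F))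
    (hR : ∀ (A : SU k F q), ∀ c ∈ R, ap A c ∈ R) {c : Fin k → F} (hc : c ∈ R) (hc0 : c ≠ 0) :
    R = ⊤ := by
  have hW := nondeg_top (F := F) (n := k) hF
  have h2 : 2 ≤ Module.finrank F (⊤ : Submodule F (Fin k → F)) := by
    rw [finrank_top, Module.finrank_fin_fun]; omega
  obtain ⟨z, hzR, hz0, hz⟩ : ∃ z ∈ R, z ≠ 0 ∧ hermForm k F q z z = 0 := by
    by_cases hcc : hermForm k F q c c = 0
    · exact ⟨c, hc, hc0, hcc⟩
    obtain ⟨δ, hδ0, hδ⟩ := exists_skew hF
    have hδt : δ + δ ^ q = 0 := by rw [hδ, add_neg_cancel]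
    obtain ⟨w, hw, hwc⟩ : ∃ w : Fin k → F, hermForm k F q w w = 0 ∧ hermForm k F q c w ≠ 0 := by
      by_contra h
      push Not at h
      refine hcc (exists_add_isotropic hF hW h2 (p := fun x => hermForm k F q c x = 0)
        (fun w _ hw => h w hw) (fun a _ b _ ha hb => ?_) c trivial)
      rw [herm_add_right hF, ha, hb, add_zero]
    refine ⟨ap (tv hF hw hδt) c - c, sub_mem (hR _ _ hc) hc, ?_, ?_⟩
    · rw [ap_tv, add_sub_cancel_left]
      exact smul_ne_zero (mul_ne_zero hδ0 hwc) (fun h => hwc (by rw [h, herm_zero_right hF]))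
    · rw [ap_tv, add_sub_cancel_left, herm_self_smul, hw, mul_zero]
  rw [eq_top_iff]
  intro x _
  refine exists_add_isotropic hF hW h2 (p := fun x => x ∈ R) (fun w _ hw => ?_)
    (fun a _ b _ ha hb => add_mem ha hb) x trivial
  by_cases hw0 : w = 0
  · rw [hw0]; exact zero_mem R
  obtain ⟨A, hA⟩ := exists_map_iso hF hk hz0 hw0 hz hw
  exact hA ▸ hR A z hzR

theorem exists_skew_diff (hF : Fintype.card F = q ^ 2) (hk : 1 ≤ k) {z : F} (hz : z + z ^ q = 0) :
    ∃ c d : Fin k → F, hermForm k F q c d - hermForm k F q d c = z := by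
  obtain ⟨t, ht⟩ := exists_trace_ne_zero hF
  let e : Fin k → F := Pi.single ⟨0, hk⟩ 1
  refine ⟨(z * t / (t + t ^ q)) • e, e, ?_⟩
  have hzq : z ^ q = -z := eq_neg_of_add_eq_zero_right hz
  rw [herm_smul_left, herm_smul_right, herm_single_single hF, if_pos rfl, mul_one, mul_one,
    div_pow, trace_pow_q hF, mul_pow, hzq, ← sub_div]
  field_simp
  ring

end Cfsg.Agent.H52.Un
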