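import Cfsg.Agent.H52.Un.NoTranslation
import Cfsg.Agent.H52.Un.Grow

/-!
# The least index of a proper subgroup of `SU(n, q)`, `n ≥ 5`
-/

set_option autoImplicit false
set_option maxHeartbeats 1000000
set_option linter.unusedSectionVars false

namespace Cfsg.Agent.H52.Un

open Cfsg Matrix
open Cfsg.Agent.Unitary

variable {F : Type*} [Field F] [Fintype F] {n q : ℕ}

theorem eq_top_of_all (hF : Fintype.card F = q ^ 2) (hn : 4 ≤ n) (H : Subgroup (SU n F q))
    (hall : ∀ x : Fin n → F, hermForm n F q x x = 0 → InS hF H x) : H = ⊤ := by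
  rw [eq_top_iff, ← tgroup_eq_top hF (Or.inl hn), tgroup, Subgroup.closure_le]
  rintro A ⟨v, c, hv, hA⟩
  by_cases hv0 : v = 0
  · have e : A = 1 := ap_ext fun x => by
      rw [ap_def, hA, unitaryTransvection_mulVec, ap_one, hv0, smul_zero, add_zero]
    rw [e]
    exact H.one_mem
  obtain ⟨w, -, hw, hwv⟩ := exists_partner hF (nondeg_top hF) Submodule.mem_top hv0 hv
  have hvw : hermForm n F q v w = 1 := by rw [← herm_swap hF w v, hwv, one_pow]
  have hA' : ∀ x, ap A x = x + (c * hermForm n F q x v) • v := fun x => by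
    rw [ap_def, hA, unitaryTransvection_mulVec]
  have hc : c + c ^ q = 0 := by
    have h := herm_ap A w w
    rw [hA', hwv, mul_one] at h
    simp only [herm_add_left, herm_add_right hF, herm_smul_left, herm_smul_right, hw, hv, hwv,
      hvw, mul_one, mul_zero, add_zero, zero_add] at h
    linear_combination h
  have e : A = tv hF hv hc := ap_ext fun x => by rw [hA', ap_tv]
  rw [e]
  exact (hall v hv).mem hv hc

/-- Every proper subgroup is at least as large in index as one of the two point counts. -/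
theorem not_small (hF : Fintype.card F = q ^ 2) :
    ∀ n, 5 ≤ n → ∀ H : Subgroup (SU n F q), H ≠ ⊤ → ¬ Small q n H.index := by
  intro n
  induction n using Nat.strong_induction_on with
  | _ n IH =>
  intro hn H hH hsm
  classical
  have hq := two_le_q hF
  obtain ⟨k, rfl⟩ : ∃ k, n = k + 2 := ⟨n - 2, by omega⟩
  have hgood : Good hF k H := by
    intro fr hu
    obtain ⟨z, hz, hzX⟩ : ∃ z, z + z ^ q = 0 ∧ z ∉ Xset hF fr H := by
      by_contra h
      push Not at h
      exact hu ⟨fr.uu, fun c hc => (mem_X_iff hF fr H hc).1 (h c hc)⟩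
    exact no_translation hF fr H hn IH hsm hz hzX
  obtain ⟨u, hu, huS⟩ : ∃ u : Fin (k + 2) → F, hermForm (k + 2) F q u u = 0 ∧ ¬ InS hF H u := by
    by_contra h
    push Not at h
    exact hH (eq_top_of_all hF (by omega) H h)
  have hu0 : u ≠ 0 := fun h => huS ⟨hu, fun c hc => by
    convert H.one_mem
    exact ap_ext fun x => by rw [ap_tv, ap_one, h, smul_zero, add_zero]⟩
  obtain ⟨fr, hfr⟩ := exists_fr (k := k) hF rfl hu0 hu
  obtain ⟨W, hW, h3, hc3, hiso⟩ := exists_seed rfl (by omega) hgood fr (hfr ▸ huS)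
  obtain ⟨hsm1, hsm2⟩ := hsm
  rcases grow rfl hgood (k + 2) W (by omega) hW h3 hc3 hiso with hall |
    ⟨x, hx0, hxx, hfix⟩ | ⟨C, hC, hC1, hC3, hstab⟩
  · exact hH (eq_top_of_all hF (by omega) H hall)
  · -- a fixed isotropic point
    have h := card_orbit_le H ap ap_mul x (Set.range fun a : Fˣ => (a : F) • x) (fun g hg => by
      obtain ⟨a, ha⟩ := hfix g hg
      have ha0 : a ≠ 0 := by
        rintro rfl
        exact hx0 (ap_injective g (by rw [ha, zero_smul, ap_zero]))
      exact ⟨Units.mk0 a ha0, ha.symm⟩) {y | y ≠ 0 ∧ hermForm (k + 2) F q y y = 0}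
      fun y hy => exists_map_iso hF (by omega) hx0 hy.1 hxx hy.2
    rw [show Nat.card ({y | y ≠ 0 ∧ hermForm (k + 2) F q y y = 0} : Set (Fin (k + 2) → F)) =
      isoN q (k + 2) from card_iso_nonzero hF (by omega)] at h
    have h2 : Nat.card (Set.range fun a : Fˣ => (a : F) • x) ≤ q ^ 2 - 1 :=
      (Finite.card_range_le _).trans_eq (by rw [card_units hF, ← Nat.sq_sub_sq, one_pow])
    exact absurd (h.trans (Nat.mul_le_mul_left _ h2)) (not_le.2 hsm1)
  · -- a fixed non-degenerate subspace
    obtain ⟨g, hg, hspan⟩ := exists_ON_basis hF C hC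
    revert g
    generalize hc : Module.finrank F C = c at hC1 hC3 ⊢
    intro g hg hspan
    have hgC : ∀ i, g i ∈ C := fun i => (le_of_eq hspan : _ ≤ C) (Submodule.subset_span (Set.mem_range_self i))
    have hcoord : ∀ y ∈ C, Em g *ᵥ (Es q g *ᵥ y) = y := by
      intro y hy
      rw [← hspan] at hy
      obtain ⟨t, rfl⟩ := (Submodule.mem_span_range_iff_exists_fun F).1 hy
      rw [← Em_mulVec, Es_Em hF hg]
    have hpres : ∀ y ∈ C, ∀ z ∈ C,
        hermForm c F q (Es q g *ᵥ y) (Es q g *ᵥ z) = hermForm (k + 2) F q y z := by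
      intro y hy z hz
      rw [← herm_Em_Em hF hg, hcoord y hy, hcoord z hz]
    rcases (show c = 1 ∨ 2 ≤ c by omega) with hc' | hc'
    · -- an anisotropic point
      let e := g ⟨0, by omega⟩
      have he : hermForm (k + 2) F q e e = 1 := by rw [hg, if_pos rfl]
      let T : Set (Fin (k + 2) → F) := {y | y ∈ C ∧ hermForm (k + 2) F q y y = 1}
      have h := card_orbit_le H ap ap_mul e T
        (fun a ha => ⟨hstab a ha e (hgC _), by rw [herm_ap, he]⟩)
        {y | hermForm (k + 2) F q y y = 1} fun y hy =>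
          exists_map_norm hF (by omega) (by rw [he]; exact hy) (by rw [he]; exact one_ne_zero)
      rw [show Nat.card ({y | hermForm (k + 2) F q y y = 1} : Set (Fin (k + 2) → F)) =
        q ^ (k + 2 - 1) * guFactor q (k + 2 - 1) from
          card_norm_vec hF (by omega) one_ne_zero (one_pow q)] at h
      have hT : Nat.card T ≤ q + 1 := by
        calc Nat.card T ≤ Nat.card {t : Fin c → F // hermForm c F q t t = 1} := by
              refine Nat.card_le_card_of_injective (fun y => ⟨Es q g *ᵥ y.1, ?_⟩) ?_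
              · rw [hpres y.1 y.2.1 y.1 y.2.1]; exact y.2.2
              · intro y y' e'
                have := congrArg (fun t => Em g *ᵥ t) (congrArg Subtype.val e')
                simp only [hcoord _ y.2.1, hcoord _ y'.2.1] at this
                exact Subtype.ext this
          _ = q + 1 := by
              rw [hc', card_norm_vec hF le_rfl one_ne_zero (one_pow q)]
              simp [guFactor]
      exact absurd (h.trans (Nat.mul_le_mul_left _ hT)) (not_le.2 hsm2)
    · -- pairs of orthonormal vectors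
      let act : SU (k + 2) F q → (Fin 2 → Fin (k + 2) → F) → (Fin 2 → Fin (k + 2) → F) :=
        fun a f i => ap a (f i)
      let f₀ : Fin 2 → Fin (k + 2) → F := ![g ⟨0, by omega⟩, g ⟨1, by omega⟩]
      have hf₀ : ON q f₀ := by
        intro i j; fin_cases i <;> fin_cases j <;> simp [f₀, hg _ _, Fin.ext_iff]
      let T : Set (Fin 2 → Fin (k + 2) → F) := {f | ON q f ∧ ∀ i, f i ∈ C}
      have h := card_orbit_le H act (fun a b f => funext fun i => ap_mul a b (f i)) f₀ T
        (fun a ha => ⟨fun i j => by simp only [act, herm_ap]; exact hf₀ i j, fun i => hstab a ha _ (by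
          fin_cases i <;> simp [f₀, hgC])⟩)
        {f | ON q f} fun f hf => by
          obtain ⟨a, ha⟩ := exists_map_ON hF (by omega) hf₀ hf
          exact ⟨a, funext ha⟩
      rw [show Nat.card ({f | ON q f} : Set (Fin 2 → Fin (k + 2) → F)) =
        Nat.card (Frame (k + 2) F q 2) from rfl, card_frame_mul hF 2 (by omega),
        Finset.prod_range_succ, Finset.prod_range_one, Nat.sub_zero,
        show k + 2 - 1 = k + 1 from rfl,
        normCount_one_nat hF, normCount_one_nat hF] at h
      have hT : Nat.card T ≤ (q + 1) * (q ^ k * guFactor q k) := by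
        calc Nat.card T ≤ Nat.card (Frame c F q 2) := by
              refine Nat.card_le_card_of_injective (fun f => ⟨fun i => Es q g *ᵥ f.1 i, ?_⟩) ?_
              · intro i j; rw [hpres _ (f.2.2 i) _ (f.2.2 j)]; exact f.2.1 i j
              · intro f f' e'
                refine Subtype.ext (funext fun i => ?_)
                have := congrArg (fun t => Em g *ᵥ t) (congrFun (congrArg Subtype.val e') i)
                simp only [hcoord _ (f.2.2 i), hcoord _ (f'.2.2 i)] at this
                exact this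
          _ ≤ _ := by
              rw [card_frame_mul hF 2 hc', Finset.prod_range_succ, Finset.prod_range_one,
                Nat.sub_zero]
              have hk : q ^ 3 * (q ^ 4 - 1) ≤ q ^ k * guFactor q k :=
                Nat.mul_le_mul (Nat.pow_le_pow_right (by omega) (by omega))
                  (le_trans (Nat.sub_le_sub_right (Nat.pow_le_pow_right (by omega) (by omega)) 1)
                    (le_guFactor q k))
              refine le_trans ?_ (Nat.mul_le_mul_left _ hk)
              obtain ⟨r, hr⟩ : ∃ r, q ^ 2 = r + 1 :=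
                ⟨q ^ 2 - 1, by have := Nat.one_le_pow 2 q (by omega); omega⟩
              have e4 : q ^ 4 - 1 = r * (r + 2) := by
                rw [show q ^ 4 = (q ^ 2) ^ 2 by ring, hr]
                have : (r + 1) ^ 2 = r * (r + 2) + 1 := by ring
                omega
              rw [e4]
              rcases (show c = 2 ∨ c = 3 by omega) with hc2 | hc2 <;> rw [hc2]
              · rw [show (2 : ℕ) - 1 = 0 + 1 from rfl, normCount_one_nat hF 1, normCount_one_nat hF 0]
                simp only [guFactor, Nat.reduceAdd, Nat.not_even_one, if_false, Even.zero, if_true]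
                rw [hr, Nat.add_sub_cancel]
                have : r ≤ r * (r + 2) := Nat.le_mul_of_pos_right _ (by omega)
                have : q * r ≤ q ^ 3 * (r * (r + 2)) :=
                  Nat.mul_le_mul (Nat.le_self_pow (by norm_num) q) this
                calc q ^ 1 * r * (q ^ 0 * (q ^ 1 + 1)) = (q + 1) * (q * r) := by ring
                  _ ≤ _ := Nat.mul_le_mul_left _ this
              · rw [show (3 : ℕ) - 1 = 1 + 1 from rfl, normCount_one_nat hF 2, normCount_one_nat hF 1]
                simp only [guFactor, Nat.reduceAdd, Nat.not_even_one, if_false, even_two, if_true]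
                rw [hr, Nat.add_sub_cancel]
                have : q ^ 3 + 1 ≤ (q + 1) * (r + 2) := by
                  rw [show r + 2 = q ^ 2 + 1 by omega]; nlinarith
                calc (r + 1) * (q ^ 3 + 1) * (q ^ 1 * r) = q ^ 3 * r * (q ^ 3 + 1) := by
                      rw [← hr]; ring
                  _ ≤ q ^ 3 * r * ((q + 1) * (r + 2)) := Nat.mul_le_mul_left _ this
                  _ = _ := by ring
      have h2 := h.trans (Nat.mul_le_mul_left _ hT)
      have h3 : anisoN q (k + 2) ≤ H.index * (q + 1) := by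
        refine Nat.le_of_mul_le_mul_right ?_ (show 0 < q ^ k * guFactor q k from
          Nat.mul_pos (pow_pos (by omega) _) (lt_of_lt_of_le (by
            have := Nat.pow_le_pow_left hq (k + 1)
            have : 2 ≤ 2 ^ (k + 1) := Nat.le_self_pow (by omega) 2
            omega) (le_guFactor q k)))
        calc _ = q ^ (k + 1) * guFactor q (k + 1) * (q ^ k * guFactor q k) := rfl
          _ ≤ _ := h2
          _ = _ := by ring
      omega

/-! ### The bound is attained -/

/-- The stabiliser of a point. -/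
def lineStab (x : Fin n → F) (hx0 : x ≠ 0) : Subgroup (SU n F q) where
  carrier := {g | ∃ a : F, ap g x = a • x}
  one_mem' := ⟨1, by rw [ap_one, one_smul]⟩
  mul_mem' := fun {g g'} ⟨a, ha⟩ ⟨b, hb⟩ => ⟨b * a, by rw [ap_mul, hb, ap_smul, ha, smul_smul]⟩
  inv_mem' := fun {g} ⟨a, ha⟩ => ⟨a⁻¹, by
    have ha0 : a ≠ 0 := by
      rintro rfl
      exact hx0 (ap_injective g (by rw [ha, zero_smul, ap_zero]))
    have := congrArg (ap g⁻¹) ha
    rw [ap_inv_ap, ap_smul] at this
    nth_rw 2 [this]
    rw [inv_smul_smul₀ ha0]⟩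

theorem mem_lineStab {x : Fin n → F} {hx0 : x ≠ 0} {g : SU n F q} :
    g ∈ lineStab x hx0 ↔ ∃ a : F, ap g x = a • x := Iff.rfl

theorem center_le_lineStab (hF : Fintype.card F = q ^ 2) (hn : 2 ≤ n) {x : Fin n → F} (hx0 : x ≠ 0) :
    Subgroup.center (SU n F q) ≤ lineStab x hx0 := fun g hg => by
  obtain ⟨l, hl⟩ := eq_smul_of_mem_center hF hn hg
  exact mem_lineStab.2 ⟨l, hl x⟩

theorem index_lineStab {x : Fin n → F} (hx0 : x ≠ 0) (A : Set F)
    (hA : ∀ g : SU n F q, ∀ a, ap g x = a • x → a ∈ A)
    (hA' : ∀ a ∈ A, ∃ g : SU n F q, ap g x = a • x) (U : Set (Fin n → F))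
    (hU : ∀ g : SU n F q, ap g x ∈ U) (hU' : ∀ y ∈ U, ∃ g : SU n F q, ap g x = y) :
    (lineStab x hx0 : Subgroup (SU n F q)).index * Nat.card A = Nat.card U := by
  classical
  letI : MulAction (SU n F q) (Fin n → F) :=
    { smul := ap, one_smul := ap_one, mul_smul := ap_mul }
  let St : Subgroup (SU n F q) := lineStab x hx0
  let Fix := MulAction.stabilizer (SU n F q) x
  have hFix : Fix ≤ St := fun g hg =>
    mem_lineStab.2 ⟨1, by rw [one_smul]; exact MulAction.mem_stabilizer_iff.1 hg⟩
  have h1 : Fix.index = Nat.card U := by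
    rw [MulAction.index_stabilizer, Nat.card_coe_set_eq]
    congr 1
    ext y
    exact ⟨fun ⟨g, hg⟩ => hg ▸ hU g, fun hy => hU' y hy⟩
  have h2 : Fix.relIndex St = Nat.card A := by
    have e : Fix.subgroupOf St = MulAction.stabilizer St x := by
      ext g
      rfl
    rw [Subgroup.relIndex, e, MulAction.index_stabilizer]
    have : MulAction.orbit St x = (fun a : F => a • x) '' A := by
      ext y
      constructor
      · rintro ⟨⟨g, hg⟩, rfl⟩
        obtain ⟨a, ha⟩ := mem_lineStab.1 hg
        exact ⟨a, hA g a ha, ha.symm⟩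
      · rintro ⟨a, ha, rfl⟩
        obtain ⟨g, hg⟩ := hA' a ha
        exact ⟨⟨g, mem_lineStab.2 ⟨a, hg⟩⟩, hg⟩
    exact (congrArg Set.ncard this).trans ((Set.ncard_image_of_injective _ (smul_left_injective F hx0)).trans (Nat.card_coe_set_eq A).symm)
  rw [← h1, ← Subgroup.relIndex_mul_index hFix, h2, mul_comm]

theorem exists_index_iso (hF : Fintype.card F = q ^ 2) (hn : 3 ≤ n) :
    ∃ H : Subgroup (SU n F q), Subgroup.center _ ≤ H ∧ H.index * (q ^ 2 - 1) = isoN q n := by
  obtain ⟨x, hx0, hx⟩ := exists_isotropic_top (n := n) (F := F) hF (by omega)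
  refine ⟨lineStab x hx0, center_le_lineStab hF (by omega) hx0, ?_⟩
  rw [← card_iso_nonzero hF (n := n) (by omega), show q ^ 2 - 1 = Nat.card ({a | a ≠ 0} : Set F) by
    have e : Nat.card ({a | a ≠ 0} : Set F) = Nat.card Fˣ := Nat.card_congr unitsEquivNeZero.symm
    rw [e, card_units hF, ← Nat.sq_sub_sq, one_pow]]
  refine index_lineStab hx0 _ ?_ ?_ {y | y ≠ 0 ∧ hermForm n F q y y = 0} ?_ ?_
  · rintro g a ha rfl
    exact hx0 (ap_injective g (by rw [ha, zero_smul, ap_zero]))
  · exact fun a ha => exists_map_iso hF hn hx0 (smul_ne_zero ha hx0) hx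
      (by rw [herm_self_smul, hx, mul_zero])
  · exact fun g => ⟨fun h => hx0 (ap_injective g (h.trans (ap_zero g).symm)),
      by rw [herm_ap, hx]⟩
  · exact fun y hy => exists_map_iso hF hn hx0 hy.1 hx hy.2

theorem exists_index_aniso (hF : Fintype.card F = q ^ 2) (hn : 2 ≤ n) :
    ∃ H : Subgroup (SU n F q), Subgroup.center _ ≤ H ∧ H.index * (q + 1) = anisoN q n := by
  set e : Fin n → F := Pi.single ⟨0, by omega⟩ 1
  have he : hermForm n F q e e = 1 := by rw [herm_single_single hF, if_pos rfl]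
  have he0 : e ≠ 0 := fun h => by rw [h, herm_zero_left] at he; exact zero_ne_one he
  refine ⟨lineStab e he0, center_le_lineStab hF hn he0, ?_⟩
  rw [anisoN, ← card_norm_vec hF (n := n) (by omega) one_ne_zero (one_pow q),
    show q + 1 = Nat.card ({a | a * a ^ q = 1} : Set F) from (card_norm_eq_one hF).symm]
  refine index_lineStab he0 _ ?_ ?_ {y | hermForm n F q y y = 1} ?_ ?_
  · intro g a ha
    have h := herm_ap g e e
    rwa [ha, herm_self_smul, he, mul_one] at h
  · exact fun a ha => exists_map_norm hF hn (by rw [herm_self_smul, he, ha, mul_one])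
      (by rw [he]; exact one_ne_zero)
  · exact fun g => by show hermForm n F q (ap g e) (ap g e) = 1; rw [herm_ap, he]
  · exact fun y hy => exists_map_norm hF hn (by rw [he]; exact hy) (by rw [he]; exact one_ne_zero)

/-- Transfer to the projective group. -/
theorem psu_result (hF : Fintype.card F = q ^ 2) (hn : 5 ≤ n) {B : ℕ}
    (hlow : ∀ N, ¬ Small q n N → B ≤ N)
    (hex : ∃ H : Subgroup (SU n F q), Subgroup.center _ ≤ H ∧ H.index = B) :
    (∀ H : Subgroup (PSU n F q), H ≠ ⊤ → B ≤ H.index) ∧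
      ∃ H : Subgroup (PSU n F q), H.index = B := by
  constructor
  · intro H hH
    rw [← H.index_comap_of_surjective (QuotientGroup.mk'_surjective _)]
    refine hlow _ (not_small hF n hn _ fun h => hH ?_)
    refine Subgroup.comap_injective (QuotientGroup.mk'_surjective _) ?_
    rw [h, Subgroup.comap_top]
  · obtain ⟨H, hc, hH⟩ := hex
    refine ⟨H.map (QuotientGroup.mk' _), ?_⟩
    rw [Subgroup.index_map, QuotientGroup.ker_mk', sup_eq_left.2 hc,
      MonoidHom.range_eq_top.2 (QuotientGroup.mk'_surjective _), Subgroup.index_top, mul_one, hH]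

theorem isoN_odd {n : ℕ} (hn : 2 ≤ n) (ho : Odd n) :
    isoN q n = (q ^ n + 1) * (q ^ (n - 1) - 1) := by
  have h1 : Even (n - 1) := Nat.Odd.sub_odd ho odd_one
  have h2 : Odd (n - 2) := Nat.Odd.sub_even (by omega) ho even_two
  rw [isoN, guFactor_even h1, guFactor_odd h2, Nat.sub_add_cancel (by omega : 1 ≤ n),
    show n - 2 + 1 = n - 1 by omega]

theorem isoN_even {n : ℕ} (hn : 2 ≤ n) (he : Even n) :
    isoN q n = (q ^ n - 1) * (q ^ (n - 1) + 1) := by
  have h1 : Odd (n - 1) := Nat.Even.sub_odd (by omega) he odd_one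
  have h2 : Even (n - 2) := (by obtain ⟨m, rfl⟩ := he; exact ⟨m - 1, by omega⟩)
  rw [isoN, guFactor_odd h1, guFactor_even h2, Nat.sub_add_cancel (by omega : 1 ≤ n),
    show n - 2 + 1 = n - 1 by omega]

/-- When the isotropic points are fewer. -/
theorem iso_bound {n N : ℕ} (hq : 2 ≤ q) (h : guFactor q (n - 2) ≤ (q - 1) * q ^ (n - 1))
    (hN : ¬ Small q n N) : isoN q n / (q ^ 2 - 1) ≤ N := by
  have hs : q ^ 2 - 1 = (q + 1) * (q - 1) := by rw [← Nat.sq_sub_sq, one_pow]
  refine Nat.div_le_of_le_mul ?_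
  rw [mul_comm]
  by_contra hlt
  push Not at hlt
  refine hN ⟨hlt, ?_⟩
  refine Nat.lt_of_mul_lt_mul_right (a := q - 1) ?_
  calc N * (q + 1) * (q - 1) = N * (q ^ 2 - 1) := by rw [hs, mul_assoc]
    _ < isoN q n := hlt
    _ ≤ guFactor q (n - 1) * ((q - 1) * q ^ (n - 1)) := Nat.mul_le_mul_left _ h
    _ = _ := by rw [anisoN]; ring

theorem div_eq_of_mul_eq {a b m : ℕ} (hb : 0 < b) (h : a * b = m) : a = m / b := by
  rw [← h, Nat.mul_div_cancel _ hb]

/-- Odd dimension. -/
theorem psu_odd (hF : Fintype.card F = q ^ 2) (hn : 5 ≤ n) (ho : Odd n) :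
    (∀ H : Subgroup (PSU n F q), H ≠ ⊤ → (q ^ n + 1) * (q ^ (n - 1) - 1) / (q ^ 2 - 1) ≤ H.index) ∧
      ∃ H : Subgroup (PSU n F q), H.index = (q ^ n + 1) * (q ^ (n - 1) - 1) / (q ^ 2 - 1) := by
  have hq := two_le_q hF
  rw [← isoN_odd (by omega) ho]
  refine psu_result hF hn (fun N => iso_bound hq ?_) ?_
  · have h2 : Odd (n - 2) := Nat.Odd.sub_even (by omega) ho even_two
    rw [guFactor_odd h2, show n - 2 + 1 = n - 1 by omega]
    exact (Nat.sub_le _ _).trans (Nat.le_mul_of_pos_left _ (by omega))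
  · obtain ⟨H, hc, hH⟩ := exists_index_iso (F := F) (n := n) hF (by omega)
    exact ⟨H, hc, div_eq_of_mul_eq (by have := Nat.pow_le_pow_left hq 2; omega) hH⟩

/-- Even dimension, `q ≥ 3`. -/
theorem psu_even (hF : Fintype.card F = q ^ 2) (hq3 : 3 ≤ q) (hn : 6 ≤ n) (he : Even n) :
    (∀ H : Subgroup (PSU n F q), H ≠ ⊤ → (q ^ n - 1) * (q ^ (n - 1) + 1) / (q ^ 2 - 1) ≤ H.index) ∧
      ∃ H : Subgroup (PSU n F q), H.index = (q ^ n - 1) * (q ^ (n - 1) + 1) / (q ^ 2 - 1) := by
  have hq := two_le_q hF
  rw [← isoN_even (by omega) he]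
  refine psu_result hF (by omega) (fun N => iso_bound hq ?_) ?_
  · have h2 : Even (n - 2) := (by obtain ⟨m, rfl⟩ := he; exact ⟨m - 1, by omega⟩)
    rw [guFactor_even h2, show n - 2 + 1 = n - 1 by omega]
    have h1 : 2 * q ^ (n - 1) ≤ (q - 1) * q ^ (n - 1) := Nat.mul_le_mul_right _ (by omega)
    have := Nat.one_le_pow (n - 1) q (by omega)
    omega
  · obtain ⟨H, hc, hH⟩ := exists_index_iso (F := F) (n := n) hF (by omega)
    exact ⟨H, hc, div_eq_of_mul_eq (by have := Nat.pow_le_pow_left hq 2; omega) hH⟩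

/-- Even dimension over four elements. -/
theorem psu_two (hF : Fintype.card F = 2 ^ 2) (hn : 6 ≤ n) (he : Even n) :
    (∀ H : Subgroup (PSU n F 2), H ≠ ⊤ → 2 ^ (n - 1) * (2 ^ n - 1) / 3 ≤ H.index) ∧
      ∃ H : Subgroup (PSU n F 2), H.index = 2 ^ (n - 1) * (2 ^ n - 1) / 3 := by
  have h1 : Odd (n - 1) := Nat.Even.sub_odd (by omega) he odd_one
  have h2 : Even (n - 2) := (by obtain ⟨m, rfl⟩ := he; exact ⟨m - 1, by omega⟩)
  have e : 2 ^ (n - 1) * (2 ^ n - 1) = anisoN 2 n := by
    rw [anisoN, guFactor_odd h1, Nat.sub_add_cancel (by omega : 1 ≤ n)]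
  rw [e]
  refine psu_result hF (by omega) (fun N hN => ?_) ?_
  · refine Nat.div_le_of_le_mul ?_
    rw [mul_comm]
    by_contra hlt
    push Not at hlt
    refine hN ⟨lt_of_lt_of_le hlt ?_, hlt⟩
    rw [anisoN, isoN, guFactor_even h2, show n - 2 + 1 = n - 1 by omega, mul_comm]
    exact Nat.mul_le_mul_left _ (Nat.le_succ _)
  · obtain ⟨H, hc, hH⟩ := exists_index_aniso (F := F) (n := n) hF (by omega)
    exact ⟨H, hc, div_eq_of_mul_eq (by norm_num) hH⟩

end Cfsg.Agent.H52.Un
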