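import Cfsg.Agent.H52.Un.SmallThree
import Cfsg.Agent.H52.U4MinIndex
import Cfsg.Agent.H72.PSUThree.Final

/-!
# Below the bound, the translation parts vanish
-/

set_option autoImplicit false
set_option maxHeartbeats 1000000
set_option linter.unusedSectionVars false

namespace Cfsg.Agent.H52.Un

open Cfsg Matrix
open scoped commutatorElement
open Cfsg.Agent.Unitary

variable {F : Type*} [Field F] [Fintype F] {n k q : ℕ}

/-- Least index in `SU₃(q)`, for `q ≥ 3`. -/
theorem index_three_ge (hF : Fintype.card F = q ^ 2) (hq : 3 ≤ q) (I : Subgroup (SU 3 F q))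
    (hI : I ≠ ⊤) : q ^ 3 + 1 ≤ I.index ∨ q = 5 ∧ 50 ≤ I.index := by
  set π := QuotientGroup.mk' (Subgroup.center (SU 3 F q))
  have hs : Function.Surjective π := QuotientGroup.mk'_surjective _
  have hne : I.map π ≠ ⊤ := by
    intro h
    apply hI
    rw [eq_top_iff, ← commutator_eq_top hF (Or.inr ⟨rfl, hq⟩), commutator_def,
      Subgroup.commutator_le]
    intro a _ b _
    have dec : ∀ a, ∃ x ∈ I, ∃ z ∈ Subgroup.center (SU 3 F q), a = x * z := by
      intro a
      obtain ⟨x, hx, hxa⟩ : π a ∈ I.map π := h ▸ Subgroup.mem_top _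
      exact ⟨x, hx, x⁻¹ * a, QuotientGroup.eq.1 hxa, (mul_inv_cancel_left x a).symm⟩
    obtain ⟨x, hx, z, hz, rfl⟩ := dec a
    obtain ⟨y, hy, w, hw, rfl⟩ := dec b
    have e : ⁅x * z, y * w⁆ = ⁅x, y⁆ := by
      rw [Subgroup.mem_center_iff] at hz hw
      simp only [commutatorElement_def, _root_.mul_inv_rev]
      calc x * z * (y * w) * (z⁻¹ * x⁻¹) * (w⁻¹ * y⁻¹)
          = x * (z * (y * w)) * z⁻¹ * x⁻¹ * (w⁻¹ * y⁻¹) := by simp only [mul_assoc]
        _ = x * (y * w) * x⁻¹ * (w⁻¹ * y⁻¹) := by rw [← hz (y * w)]; group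
        _ = x * y * (w * x⁻¹) * (w⁻¹ * y⁻¹) := by simp only [mul_assoc]
        _ = x * y * x⁻¹ * y⁻¹ := by rw [← hw x⁻¹]; group
    rw [e]
    exact I.mul_mem (I.mul_mem (I.mul_mem hx hy) (I.inv_mem hx)) (I.inv_mem hy)
  have hle : (I.map π).index ≤ I.index :=
    Nat.le_of_dvd (Nat.pos_of_ne_zero Subgroup.index_ne_zero_of_finite) (I.index_map_dvd hs)
  rcases H72.PSUThree.index_psu_cases hF hq (I.map π) hne with h | ⟨h, h'⟩
  · exact Or.inl (h.trans hle)
  · exact Or.inr ⟨h, h'.trans hle⟩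

variable (hF : Fintype.card F = q ^ 2) (fr : Fr n F q k) (H : Subgroup (SU n F q))

theorem card_X_lt {z : F} (hz : z + z ^ q = 0) (hzX : z ∉ Xset hF fr H) :
    Nat.card (Xset hF fr H) < q ∧ Nat.card (Xset hF fr H) ∣ q := by
  let S : AddSubgroup F := (trHom hF).ker
  have hS : Nat.card S = q := (Nat.card_congr (Equiv.subtypeEquivRight fun x => by
    rw [AddMonoidHom.mem_ker, trHom_apply])).trans (card_trace_zero hF)
  have hle : Xset hF fr H ≤ S := fun x hx => skew_of_mem_X hF fr H hx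
  have hd : Nat.card (Xset hF fr H) ∣ q := by
    have h := AddSubgroup.card_dvd_of_le hle
    rwa [hS] at h
  refine ⟨lt_of_le_of_ne ?_ fun h => hzX ?_, hd⟩
  · exact Nat.le_of_dvd (q_pos hF) hd
  · rw [AddSubgroup.eq_of_le_of_card_ge hle (le_of_eq (by rw [hS, h]))]
    exact hz

theorem two_mul_le_of_dvd_pow {a b q : ℕ} (hq : IsPrimePow q) (ha : a ∣ q ^ b) {c : ℕ}
    (hac : a < q ^ c) : 2 * a ≤ q ^ c ∧ (q = 5 → 5 * a ≤ q ^ c) := by
  obtain ⟨p, e, hp, -, rfl⟩ := hq
  have hp' := hp.nat_prime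
  rw [← pow_mul] at ha hac ⊢
  obtain ⟨j, -, rfl⟩ := (Nat.dvd_prime_pow hp').1 ha
  have hj : j + 1 ≤ e * c := (Nat.pow_lt_pow_iff_right hp'.one_lt).1 hac
  have h : p * p ^ j ≤ p ^ (e * c) := by
    rw [← pow_succ']; exact Nat.pow_le_pow_right hp'.pos hj
  refine ⟨le_trans (Nat.mul_le_mul_right _ hp'.two_le) h, fun h5 => ?_⟩
  have : p = 5 := (Nat.prime_dvd_prime_iff_eq hp' (by norm_num)).1
    (h5 ▸ dvd_pow_self p (by rintro rfl; simp at h5))
  exact le_trans (le_of_eq (by rw [this])) h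

theorem five_bound {q i : ℕ} (hq : 2 ≤ q) (hi : 2 * (q ^ 3 + 1) ≤ i) :
    q ^ 7 + q ^ 5 + q ^ 2 + 1 ≤ q ^ 4 * i := by
  have h := Nat.mul_le_mul_left (q ^ 4) hi
  have h1 : q ^ 5 ≤ q ^ 7 := Nat.pow_le_pow_right (by omega) (by norm_num)
  have h2 : q ^ 2 + 1 ≤ 2 * q ^ 4 := by
    have : q ^ 2 ≤ q ^ 4 := Nat.pow_le_pow_right (by omega) (by norm_num)
    have : 1 ≤ q ^ 4 := Nat.one_le_pow _ _ (by omega)
    omega
  calc _ ≤ q ^ 4 * (2 * (q ^ 3 + 1)) := by ring_nf; ring_nf at h1 h2; omega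
    _ ≤ _ := h

/-- The five-dimensional numerical case. -/
theorem not_small_five_of_local (hn : n = 5) (hk : k = 3) (hsm : Small q n H.index) {z : F}
    (hz : z + z ^ q = 0) (hzX : z ∉ Xset hF fr H)
    (hR : ∃ c ∈ Rset hF fr H, c ≠ 0) (hI : Iset hF fr H ≠ ⊤) : False := by
  classical
  subst hn hk
  have hq := two_le_q hF
  have hL := local_bound hF fr H (by norm_num) hz hzX
  obtain ⟨hXlt, hXdvd⟩ := card_X_lt hF fr H hz hzX
  have hXpos : 0 < Nat.card (Xset hF fr H) := Nat.card_pos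
  have hsq := card_sq_le_of_isotropic hF _ _ hz hzX fun c hc d hd => comm_mem_X hF fr H hc hd
  set N := H.index
  set R := Nat.card (Rset hF fr H) with hRdef
  set X := Nat.card (Xset hF fr H) with hXdef
  set i := (Iset hF fr H).index with hidef
  have hRle : R ≤ q ^ 3 := Nat.mul_self_le_mul_self_iff.1 (hsq.trans_eq (by ring))
  have hmain : q ^ 7 * i ≤ N * R := by
    have h1 : N * (R * (q - X)) ≤ N * (R * (q - 1)) :=
      Nat.mul_le_mul_left _ (Nat.mul_le_mul_left _ (by omega))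
    refine Nat.le_of_mul_le_mul_left ?_ (show 0 < q - 1 by omega)
    calc (q - 1) * (q ^ 7 * i) = q ^ (2 * 3 + 1) * (q - 1) * i := by ring
      _ ≤ _ := hL
      _ ≤ _ := h1
      _ = (q - 1) * (N * R) := by ring
  have hpp : IsPrimePow q := by
    have h2 : IsPrimePow (Fintype.card F) := Fintype.isPrimePow_card_of_field
    rw [hF] at h2
    exact (isPrimePow_pow_iff two_ne_zero).1 h2
  refine not_small_five hq ?_ hsm
  rcases lt_or_eq_of_le hRle with hlt | heq
  · have hdvd : R ∣ q ^ 6 := by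
      have := AddSubgroup.card_addSubgroup_dvd_card (Rset hF fr H)
      rwa [Nat.card_eq_fintype_card (α := Fin 3 → F), Fintype.card_fun, Fintype.card_fin, hF,
        ← pow_mul] at this
    obtain ⟨hR2, hR5⟩ := two_mul_le_of_dvd_pow hpp hdvd hlt
    rcases lt_or_ge q 3 with hq2 | hq3
    · obtain rfl : q = 2 := by omega
      obtain ⟨c, hc, hc0⟩ := hR
      have hv := index_ge_vec hF (Iset hF fr H) (Rset hF fr H)
        (fun A hA d hd => R_stable hF fr H hA hd) hc hc0
      rw [← hRdef, ← hidef] at hv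
      norm_num at hv hmain hR2 ⊢
      have : R ≤ 4 := by omega
      interval_cases R <;> omega
    rcases index_three_ge hF hq3 _ hI with hi | ⟨h5, hi⟩
    · have h2 : q ^ 4 * (2 * (q ^ 3 + 1)) ≤ N := by
        refine Nat.le_of_mul_le_mul_left ?_ (show 0 < q ^ 3 by positivity)
        calc q ^ 3 * (q ^ 4 * (2 * (q ^ 3 + 1))) = 2 * (q ^ 7 * (q ^ 3 + 1)) := by ring
          _ ≤ 2 * (q ^ 7 * i) := by gcongr
          _ ≤ 2 * (N * R) := by gcongr
          _ = N * (2 * R) := by ring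
          _ ≤ N * q ^ 3 := Nat.mul_le_mul_left _ hR2
          _ = _ := mul_comm _ _
      exact (five_bound hq le_rfl).trans h2
    · subst h5
      have h1 := hR5 rfl
      rw [← hidef] at hi
      norm_num at hmain h1 ⊢
      nlinarith
  · rw [heq] at hL hmain
    rcases Nat.lt_or_ge X 2 with hX1 | hX2
    · have hbot : Xset hF fr H = ⊥ :=
        AddSubgroup.card_eq_one.1 (show X = 1 by omega)
      have hiso : ∀ c ∈ Rset hF fr H, ∀ d ∈ Rset hF fr H,
          hermForm 3 F q c d - hermForm 3 F q d c = 0 := fun c hc d hd => by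
        have := comm_mem_X hF fr H hc hd
        rwa [hbot, AddSubgroup.mem_bot] at this
      have hmain' : q ^ 4 * i ≤ N := Nat.le_of_mul_le_mul_right
        (by calc q ^ 4 * i * q ^ 3 = q ^ 7 * i := by ring
              _ ≤ _ := hmain) (show 0 < q ^ 3 by positivity)
      rcases index_ge_maximal hF hiso heq (Iset hF fr H)
        (fun A hA d hd => R_stable hF fr H hA hd) with hi | hi
      · exact (five_bound hq hi).trans hmain'
      rw [← hidef] at hi
      rcases lt_or_ge q 3 with hq2 | hq3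
      · obtain rfl : q = 2 := by omega
        norm_num at hi hmain' ⊢
        omega
      have hi2 : q * (q ^ 3 + 1) ≤ 2 * i := by
        refine Nat.le_of_mul_le_mul_left ?_ (show 0 < q ^ 2 by positivity)
        calc q ^ 2 * (q * (q ^ 3 + 1)) = q ^ 3 * (q ^ 3 + 1) := by ring
          _ ≤ i * min (2 * q ^ 2) (q ^ 3 - 1) := hi
          _ ≤ i * (2 * q ^ 2) := Nat.mul_le_mul_left _ (min_le_left _ _)
          _ = _ := by ring
      have h1 : q ^ 4 * (q * (q ^ 3 + 1)) ≤ 2 * N := by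
        calc _ ≤ q ^ 4 * (2 * i) := Nat.mul_le_mul_left _ hi2
          _ = 2 * (q ^ 4 * i) := by ring
          _ ≤ _ := Nat.mul_le_mul_left _ hmain'
      have h2 : 3 * q ^ 7 ≤ q ^ 8 := by
        calc 3 * q ^ 7 ≤ q * q ^ 7 := Nat.mul_le_mul_right _ hq3
          _ = q ^ 8 := by ring
      have h3 : q ^ 2 + 1 ≤ q ^ 5 := by
        calc q ^ 2 + 1 ≤ q ^ 2 * 2 := by
              have : 1 ≤ q ^ 2 := Nat.one_le_pow _ _ (by omega)
              omega
          _ ≤ q ^ 2 * q ^ 3 := Nat.mul_le_mul_left _ (le_trans hq (Nat.le_self_pow (by norm_num) q))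
          _ = q ^ 5 := by ring
      have h4 : 3 * q ^ 5 ≤ q ^ 7 := by
        calc 3 * q ^ 5 ≤ q ^ 2 * q ^ 5 := Nat.mul_le_mul_right _ (by nlinarith)
          _ = q ^ 7 := by ring
      ring_nf at h1 h2 h3 h4 ⊢
      omega
    · have hq3 : 3 ≤ q := by omega
      have hq5 : q ≠ 5 := by
        rintro rfl
        have := (Nat.dvd_prime (by norm_num : Nat.Prime 5)).1 hXdvd
        omega
      obtain hi | ⟨h5, -⟩ := index_three_ge hF hq3 _ hI
      swap; · exact absurd h5 hq5
      rw [← hidef] at hi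
      obtain ⟨r, hr⟩ : ∃ r, q = r + 3 := ⟨q - 3, by omega⟩
      have h1 : q ^ 4 * (q - 1) * i ≤ N * (q - 2) := by
        refine Nat.le_of_mul_le_mul_left ?_ (show 0 < q ^ 3 by positivity)
        calc q ^ 3 * (q ^ 4 * (q - 1) * i) = q ^ (2 * 3 + 1) * (q - 1) * i := by ring
          _ ≤ _ := hL
          _ ≤ N * (q ^ 3 * (q - 2)) := Nat.mul_le_mul_left _ (Nat.mul_le_mul_left _ (by omega))
          _ = _ := by ring
      have h2 : q ^ 3 * (q + 1) * i ≤ N := by
        refine Nat.le_of_mul_le_mul_right ?_ (show 0 < q - 2 by omega)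
        refine le_trans ?_ h1
        rw [show q ^ 3 * (q + 1) * i * (q - 2) = q ^ 3 * i * ((q + 1) * (q - 2)) by ring,
          show q ^ 4 * (q - 1) * i = q ^ 3 * i * (q * (q - 1)) by ring]
        refine Nat.mul_le_mul_left _ ?_
        rw [hr, show r + 3 - 2 = r + 1 by omega, show r + 3 - 1 = r + 2 by omega]
        nlinarith
      refine le_trans ?_ ((Nat.mul_le_mul_left _ hi).trans h2)
      have e : q ^ 3 * (q + 1) * (q ^ 3 + 1) = q ^ 7 + q ^ 6 + q ^ 4 + q ^ 3 := by ring
      have : q ^ 5 ≤ q ^ 6 := Nat.pow_le_pow_right (by omega) (by norm_num)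
      have : q ^ 2 ≤ q ^ 4 := Nat.pow_le_pow_right (by omega) (by norm_num)
      have : 1 ≤ q ^ 3 := Nat.one_le_pow _ _ (by omega)
      omega

/-- Below the bound the radical part of `H` lies in the root group and the Levi part is full. -/
theorem no_translation (hn : 5 ≤ n)
    (IH : ∀ m, m < n → 5 ≤ m → ∀ I : Subgroup (SU m F q), I ≠ ⊤ → ¬ Small q m I.index)
    (hsm : Small q n H.index) {z : F} (hz : z + z ^ q = 0) (hzX : z ∉ Xset hF fr H) :
    Rset hF fr H = ⊥ ∧ Iset hF fr H = ⊤ := by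
  classical
  have hq := two_le_q hF
  have hdim := fr.dim
  have hL := local_bound hF fr H (by omega) hz hzX
  have hsq := card_sq_le_of_isotropic hF _ _ hz hzX fun c hc d hd => comm_mem_X hF fr H hc hd
  have hXpos : 0 < Nat.card (Xset hF fr H) := Nat.card_pos
  have hi0 : (Iset hF fr H).index ≠ 0 := Subgroup.index_ne_zero_of_finite
  have hmain : q ^ (2 * k + 1) * (Iset hF fr H).index ≤ H.index * Nat.card (Rset hF fr H) := by
    refine Nat.le_of_mul_le_mul_left ?_ (show 0 < q - 1 by omega)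
    calc _ = q ^ (2 * k + 1) * (q - 1) * (Iset hF fr H).index := by ring
      _ ≤ _ := hL
      _ ≤ H.index * (Nat.card (Rset hF fr H) * (q - 1)) :=
        Nat.mul_le_mul_left _ (Nat.mul_le_mul_left _ (by omega))
      _ = _ := by ring
  by_cases hR : Rset hF fr H = ⊥
  · refine ⟨hR, ?_⟩
    by_contra hI
    rw [hR, AddSubgroup.card_bot, mul_one] at hmain
    have h2 : 2 ≤ (Iset hF fr H).index := by
      have h1 : (Iset hF fr H).index ≠ 1 := fun h => hI (Subgroup.index_eq_one.1 h)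
      omega
    refine not_small_of_pow hq hn ?_ hsm
    rw [show 2 * n - 3 = 2 * k + 1 by omega]
    exact le_trans (by rw [mul_comm]; exact Nat.mul_le_mul_left _ h2) hmain
  exfalso
  have hR' : ∃ c ∈ Rset hF fr H, c ≠ 0 := (AddSubgroup.bot_or_exists_ne_zero _).resolve_left hR
  have hI : Iset hF fr H ≠ ⊤ := by
    intro hI
    obtain ⟨c, hc, hc0⟩ := hR'
    have htop := eq_top_of_stable hF (show 3 ≤ k by omega) _
      (fun A d hd => R_stable hF fr H (hI ▸ Subgroup.mem_top A) hd) hc hc0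
    obtain ⟨c', d', e⟩ := exists_skew_diff hF (show 1 ≤ k by omega) hz
    exact hzX (e ▸ comm_mem_X hF fr H (htop ▸ AddSubgroup.mem_top c') (htop ▸ AddSubgroup.mem_top d'))
  rcases (show k = 3 ∨ k = 4 ∨ 5 ≤ k by omega) with hk | hk | hk
  · exact not_small_five_of_local hF fr H (by omega) hk hsm hz hzX hR' hI
  all_goals
    have hRle : Nat.card (Rset hF fr H) ≤ q ^ k :=
      Nat.mul_self_le_mul_self_iff.1 (hsq.trans_eq (by rw [← pow_add]; ring_nf))
    have hN : q ^ (k + 1) * (Iset hF fr H).index ≤ H.index := by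
      refine Nat.le_of_mul_le_mul_left ?_ (show 0 < q ^ k by positivity)
      calc q ^ k * (q ^ (k + 1) * (Iset hF fr H).index)
          = q ^ (2 * k + 1) * (Iset hF fr H).index := by rw [← mul_assoc, ← pow_add]; ring_nf
        _ ≤ _ := hmain
        _ ≤ H.index * q ^ k := Nat.mul_le_mul_left _ hRle
        _ = _ := mul_comm _ _
  · subst hk
    obtain rfl : n = 6 := by omega
    exact not_small_six hq ((Nat.mul_le_mul_left _ (H52.U4.index_ge hF _ hI)).trans hN) hsm
  · have hbig := big_of_not_small hq hk (IH k (by omega) hk _ hI)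
    refine not_small_of_pow hq hn ?_ hsm
    rw [show 2 * n - 3 = k + 1 + k by omega, pow_add]
    exact le_trans (le_of_eq (by ring)) ((Nat.mul_le_mul_left _ hbig).trans hN)

end Cfsg.Agent.H52.Un
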