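import Cfsg.Agent.H52.Un.Frame

/-!
# A subgroup of small index at an isotropic point
-/

set_option autoImplicit false
set_option maxHeartbeats 1000000
set_option linter.unusedSectionVars false

namespace Cfsg.Agent.H52.Un

open Cfsg Matrix
open Cfsg.Agent.Unitary

variable {F : Type*} [Field F] [Fintype F] {n k q : ℕ}
variable (hF : Fintype.card F = q ^ 2) (fr : Fr n F q k) (H : Subgroup (SU n F q))

/-- `H` contains an element with Levi part `A` and translation part `c`. -/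
def Lift (A : SU k F q) (c : Fin k → F) : Prop :=
  ∃ (α : F) (h : α + α ^ q + hermForm k F q c c = 0), fr.eQ hF h * emb hF fr.on A ∈ H

variable {hF fr H}

theorem lift_one : Lift hF fr H 1 0 :=
  ⟨0, okP_zero hF, by rw [fr.eQ_zero, map_one, mul_one]; exact one_mem H⟩

theorem Lift.mul {A B : SU k F q} {c d : Fin k → F} (h : Lift hF fr H A c)
    (h' : Lift hF fr H B d) : Lift hF fr H (A * B) (c + ap A d) := by
  obtain ⟨α, hα, h⟩ := h
  obtain ⟨β, hβ, h'⟩ := h'
  refine ⟨_, okP_add hF hα (okP_ap (A := A) hβ), ?_⟩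
  have := mul_mem h h'
  rwa [mul_assoc, ← mul_assoc (emb hF fr.on A), fr.emb_conj hF A hβ (okP_ap hβ), mul_assoc,
    ← map_mul, ← mul_assoc, fr.eQ_mul] at this

theorem Lift.inv {A : SU k F q} {c : Fin k → F} (h : Lift hF fr H A c) :
    Lift hF fr H A⁻¹ (ap A⁻¹ (-c)) := by
  obtain ⟨α, hα, h⟩ := h
  refine ⟨_, okP_ap (A := A⁻¹) (okP_neg hF hα), ?_⟩
  have := inv_mem h
  rwa [_root_.mul_inv_rev, fr.eQ_inv, ← map_inv, fr.emb_conj hF A⁻¹ (okP_neg hF hα) (okP_ap (okP_neg hF hα))]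
    at this

variable (hF fr H)

/-- The translation parts of the radical elements of `H`. -/
def Rset : AddSubgroup (Fin k → F) where
  carrier := {c | Lift hF fr H 1 c}
  zero_mem' := lift_one
  add_mem' {a b} ha hb := by simpa using Lift.mul ha hb
  neg_mem' {a} ha := by simpa using Lift.inv ha

/-- The Levi parts of the elements of `H` fixing the point. -/
def Iset : Subgroup (SU k F q) where
  carrier := {A | ∃ c, Lift hF fr H A c}
  one_mem' := ⟨0, lift_one⟩
  mul_mem' := fun ⟨_, ha⟩ ⟨_, hb⟩ => ⟨_, ha.mul hb⟩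
  inv_mem' := fun ⟨_, ha⟩ => ⟨_, ha.inv⟩

/-- The parameters of the transvections of `H` with axis the point. -/
def Xset : AddSubgroup F where
  carrier := {α | ∃ h : α + α ^ q + hermForm k F q (0 : Fin k → F) 0 = 0, fr.eQ hF h ∈ H}
  zero_mem' := ⟨okP_zero hF, by rw [fr.eQ_zero]; exact one_mem H⟩
  add_mem' {a b} := fun ⟨ha, hha⟩ ⟨hb, hhb⟩ => by
    have h : a + b + (a + b) ^ q + hermForm k F q (0 : Fin k → F) 0 = 0 := by
      rw [add_pow_q hF, herm_zero_left]
      rw [herm_zero_left] at ha hb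
      linear_combination ha + hb
    refine ⟨h, ?_⟩
    rw [fr.eQ_congr hF (add_zero (0 : Fin k → F)).symm (α' := a + b - hermForm k F q 0 0)
      (by rw [herm_zero_left, sub_zero]) h (okP_add hF ha hb), ← fr.eQ_mul hF ha hb]
    exact mul_mem hha hhb
  neg_mem' {a} := fun ⟨ha, hha⟩ => by
    have ha' := ha
    rw [herm_zero_left, add_zero] at ha'
    have h : -a + (-a) ^ q + hermForm k F q (0 : Fin k → F) 0 = 0 := by
      rw [neg_pow_q hF, herm_zero_left]
      linear_combination -ha'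
    refine ⟨h, ?_⟩
    rw [fr.eQ_congr hF (neg_zero (G := Fin k → F)).symm (α' := a ^ q)
      (by linear_combination -ha') h (okP_neg hF ha), ← fr.eQ_inv hF ha]
    exact inv_mem hha

theorem skew_of_mem_X {α : F} (h : α ∈ Xset hF fr H) : α + α ^ q = 0 := by
  obtain ⟨h, -⟩ := h
  rwa [herm_zero_left, add_zero] at h

theorem mem_X_iff {α : F} (hα : α + α ^ q = 0) : α ∈ Xset hF fr H ↔ tv hF fr.uu hα ∈ H := by
  have e : ∀ h : α + α ^ q + hermForm k F q (0 : Fin k → F) 0 = 0,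
      fr.eQ hF h = tv hF fr.uu hα := fun h => eSU_eq_of_eMat hF _ _ fun x => by
    rw [ap_eSU, ap_eSU, mulVec_zero]
  constructor
  · rintro ⟨h, hh⟩; rwa [← e h]
  · intro h
    have h0 : α + α ^ q + hermForm k F q (0 : Fin k → F) 0 = 0 := by
      rw [herm_zero_left, add_zero, hα]
    exact ⟨h0, by rwa [e h0]⟩

theorem R_stable {A : SU k F q} (hA : A ∈ Iset hF fr H) {c : Fin k → F}
    (hc : c ∈ Rset hF fr H) : ap A c ∈ Rset hF fr H := by
  obtain ⟨d, hd⟩ := hA
  have := (hd.mul hc).mul hd.inv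
  rw [mul_one, mul_inv_cancel, ap_ap_inv] at this
  show Lift hF fr H 1 (ap A c)
  rwa [show d + ap A c + -d = ap A c by abel] at this

theorem comm_mem_X {c d : Fin k → F} (hc : c ∈ Rset hF fr H) (hd : d ∈ Rset hF fr H) :
    hermForm k F q c d - hermForm k F q d c ∈ Xset hF fr H := by
  obtain ⟨α, hα, hh⟩ := hc
  obtain ⟨β, hβ, hh'⟩ := hd
  rw [map_one, mul_one] at hh hh'
  set δ := hermForm k F q c d - hermForm k F q d c with hδ
  have h0 : δ + δ ^ q + hermForm k F q (0 : Fin k → F) 0 = 0 := by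
    rw [hδ, sub_pow_q hF, herm_swap hF, herm_swap hF, herm_zero_left]; ring
  refine ⟨h0, ?_⟩
  have e : fr.eQ hF h0 * (fr.eQ hF hβ * fr.eQ hF hα) = fr.eQ hF hα * fr.eQ hF hβ := by
    rw [fr.eQ_mul hF hβ hα, fr.eQ_mul hF hα hβ, fr.eQ_mul]
    refine fr.eQ_congr hF (by abel) ?_ _ _
    rw [herm_zero_right hF, hδ]
    ring
  rw [eq_mul_inv_of_mul_eq e]
  exact mul_mem (mul_mem hh hh') (inv_mem (mul_mem hh' hh))

/-- The group of the radical. -/
def Qsub : Subgroup (SU n F q) where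
  carrier := {g | ∃ (c : Fin k → F) (α : F) (h : α + α ^ q + hermForm k F q c c = 0), g = fr.eQ hF h}
  one_mem' := ⟨0, 0, okP_zero hF, (fr.eQ_zero hF).symm⟩
  mul_mem' := fun ⟨c, α, h, e⟩ ⟨d, β, h', e'⟩ => ⟨_, _, okP_add hF h h', by subst e e'; exact fr.eQ_mul hF h h'⟩
  inv_mem' := fun ⟨c, α, h, e⟩ => ⟨_, _, okP_neg hF h, by subst e; exact fr.eQ_inv hF h⟩

/-- The root group of the point. -/
def Zsub : Subgroup (SU n F q) where
  carrier := {g | ∃ (α : F) (h : α + α ^ q + hermForm k F q (0 : Fin k → F) 0 = 0), g = fr.eQ hF h}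
  one_mem' := ⟨0, okP_zero hF, (fr.eQ_zero hF).symm⟩
  mul_mem' := fun ⟨α, h, e⟩ ⟨β, h', e'⟩ => ⟨α + β, by
      rw [add_pow_q hF, herm_zero_left]
      rw [herm_zero_left] at h h'
      linear_combination h + h',
    by rw [e, e', fr.eQ_mul]; exact fr.eQ_congr hF (add_zero _) (by rw [herm_zero_left, sub_zero]) _ _⟩
  inv_mem' := fun ⟨α, h, e⟩ => ⟨α ^ q, by
      rw [pow_q_q hF, herm_zero_left]
      rw [herm_zero_left] at h
      linear_combination h,
    by rw [e, fr.eQ_inv]; exact fr.eQ_congr hF neg_zero rfl _ _⟩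

/-- The stabiliser of the point. -/
def Pline : Subgroup (SU n F q) where
  carrier := {g | ∃ a : F, ap g fr.u = a • fr.u}
  one_mem' := ⟨1, by rw [ap_one, one_smul]⟩
  mul_mem' := fun {g g'} ⟨a, ha⟩ ⟨b, hb⟩ => ⟨b * a, by rw [ap_mul, hb, ap_smul, ha, smul_smul]⟩
  inv_mem' := fun {g} ⟨a, ha⟩ => ⟨a⁻¹, by
    have ha0 : a ≠ 0 := by
      rintro rfl
      exact fr.u_ne_zero hF (ap_injective g (by rw [ha, zero_smul, ap_zero]))
    have := congrArg (ap g⁻¹) ha
    rw [ap_inv_ap, ap_smul] at this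
    nth_rw 2 [this]
    rw [inv_smul_smul₀ ha0]⟩

theorem mem_Qsub {g : SU n F q} : g ∈ Qsub hF fr ↔
    ∃ (c : Fin k → F) (α : F) (h : α + α ^ q + hermForm k F q c c = 0), g = fr.eQ hF h := Iff.rfl

theorem mem_Zsub {g : SU n F q} : g ∈ Zsub hF fr ↔
    ∃ (α : F) (h : α + α ^ q + hermForm k F q (0 : Fin k → F) 0 = 0), g = fr.eQ hF h := Iff.rfl

theorem mem_Pline {g : SU n F q} : g ∈ Pline hF fr ↔ ∃ a : F, ap g fr.u = a • fr.u := Iff.rfl

theorem mem_fixer_u {g : SU n F q} : g ∈ fixer n F q {fr.u} ↔ ap g fr.u = fr.u := by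
  simp [mem_fixer]

theorem card_radical_le : Nat.card (H ⊓ Qsub hF fr : Subgroup (SU n F q)) ≤
    Nat.card (Rset hF fr H) * Nat.card (Xset hF fr H) := by
  have hES : ∀ {c : Fin k → F} {α : F} (h : α + α ^ q + hermForm k F q c c = 0),
      Es q fr.E *ᵥ ap (fr.eQ hF h) fr.v = c := by
    intro c α h
    rw [fr.ap_eQ_v, mulVec_add, mulVec_add, mulVec_smul, Es_Em hF fr.on,
      show Es q fr.E *ᵥ fr.u = 0 from funext fun j => (Es_mulVec _ _ j).trans (fr.uE hF j),
      show Es q fr.E *ᵥ fr.v = 0 from funext fun j => (Es_mulVec _ _ j).trans (fr.vE hF j)]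
    simp
  have hT : Nat.card (H ⊓ Zsub hF fr : Subgroup (SU n F q)) ≤ Nat.card (Xset hF fr H) := by
    refine Nat.card_le_card_of_surjective
      (fun a : Xset hF fr H => (⟨fr.eQ hF a.2.1, a.2.2, a.1, a.2.1, rfl⟩ :
        (H ⊓ Zsub hF fr : Subgroup (SU n F q)))) ?_
    rintro ⟨g, hg, α, h, rfl⟩
    exact ⟨⟨α, h, hg⟩, rfl⟩
  refine (card_le_of_fibres _ (H ⊓ Zsub hF fr) (fun g => Es q fr.E *ᵥ ap g fr.v)
    (Rset hF fr H : Set (Fin k → F)) ?_ ?_).trans (Nat.mul_le_mul_left _ hT)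
  · rintro g ⟨hg, hgQ⟩
    obtain ⟨c, α, h, rfl⟩ := (mem_Qsub hF fr).1 hgQ
    rw [hES]
    exact ⟨α, h, by rw [map_one, mul_one]; exact hg⟩
  · rintro g ⟨hg, hgQ⟩ g' ⟨hg', hgQ'⟩ e
    obtain ⟨c, α, h, rfl⟩ := (mem_Qsub hF fr).1 hgQ
    obtain ⟨c', α', h', rfl⟩ := (mem_Qsub hF fr).1 hgQ'
    rw [hES, hES] at e
    subst e
    refine ⟨H.mul_mem (H.inv_mem hg) hg',
      (mem_Zsub hF fr).2 ⟨α ^ q + α' - hermForm k F q c (-c), ?_, ?_⟩⟩
    · have := okP_add hF (okP_neg hF h) h'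
      rwa [neg_add_cancel] at this
    · rw [fr.eQ_inv, fr.eQ_mul]
      exact fr.eQ_congr hF (neg_add_cancel c) rfl _ _

theorem card_fix_le : Nat.card (H ⊓ fixer n F q {fr.u} : Subgroup (SU n F q)) ≤
    Nat.card (Iset hF fr H) * Nat.card (H ⊓ Qsub hF fr : Subgroup (SU n F q)) := by
  have hES : ∀ {c : Fin k → F} {α : F} (h : α + α ^ q + hermForm k F q c c = 0) (A : SU k F q),
      Es q fr.E * (mat (fr.eQ hF h * emb hF fr.on A) * Em fr.E) = mat A := by
    intro c α h A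
    refine Matrix.ext_iff_mulVec.2 fun d => ?_
    rw [← mulVec_mulVec, ← mulVec_mulVec, ← ap_def, ap_mul, ap_emb_Em, Fr.eQ, ap_eSU, fr.Em_u hF]
    simp only [mul_zero, zero_smul, add_zero, mulVec_sub, mulVec_smul, Es_Em hF fr.on,
      show Es q fr.E *ᵥ fr.u = 0 from funext fun j => (Es_mulVec _ _ j).trans (fr.uE hF j),
      smul_zero, sub_zero]
    rfl
  refine (card_le_of_fibres _ (H ⊓ Qsub hF fr) (fun g => Es q fr.E * (mat g * Em fr.E))
    ((fun A => mat A) '' (Iset hF fr H : Set (SU k F q))) ?_ ?_).trans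
    (Nat.mul_le_mul_right _ (Nat.card_image_le (Set.toFinite _)))
  · rintro g ⟨hg, hgu⟩
    obtain ⟨c, α, h, A, rfl⟩ := fr.exists_factor hF ((mem_fixer_u fr).1 hgu)
    exact ⟨A, ⟨c, α, h, hg⟩, (hES h A).symm⟩
  · rintro g ⟨hg, hgu⟩ g' ⟨hg', hgu'⟩ e
    refine ⟨H.mul_mem (H.inv_mem hg) hg', (mem_Qsub hF fr).2 ?_⟩
    obtain ⟨c, α, h, A, rfl⟩ := fr.exists_factor hF ((mem_fixer_u fr).1 hgu)
    obtain ⟨c', α', h', A', rfl⟩ := fr.exists_factor hF ((mem_fixer_u fr).1 hgu')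
    rw [hES, hES] at e
    have eA : A = A' := Subtype.ext (Subtype.ext e)
    subst eA
    obtain ⟨d, β, hd, he⟩ := (mem_Qsub hF fr).1
      ((Qsub hF fr).mul_mem ((Qsub hF fr).inv_mem ((mem_Qsub hF fr).2 ⟨c, α, h, rfl⟩))
        ((mem_Qsub hF fr).2 ⟨c', α', h', rfl⟩))
    refine ⟨ap A⁻¹ d, β, okP_ap hd, ?_⟩
    have e2 := fr.emb_conj hF A⁻¹ hd (okP_ap hd)
    rw [show (fr.eQ hF h * emb hF fr.on A)⁻¹ * (fr.eQ hF h' * emb hF fr.on A)
      = emb hF fr.on A⁻¹ * ((fr.eQ hF h)⁻¹ * fr.eQ hF h') * emb hF fr.on A by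
        rw [map_inv]; group, he, e2, map_inv, inv_mul_cancel_right]

variable (hn : 3 ≤ n) {z : F} (hz : z + z ^ q = 0) (hzX : z ∉ Xset hF fr H)

/-- The multipliers of the parameters. -/
def U0 : Set F := {r | r ≠ 0 ∧ r ^ q = r ∧ ∀ x ∈ Xset hF fr H, r * x ∈ Xset hF fr H}

include hz hzX in
theorem card_U0_le :
    (Nat.card (U0 hF fr H) + 1) * Nat.card (Xset hF fr H) ≤ q := by
  classical
  rw [← Finite.card_option, ← Nat.card_prod]
  refine le_of_le_of_eq ?_ (card_trace_zero hF)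
  let r : Option (U0 hF fr H) → F := fun o => o.elim 0 Subtype.val
  have hr : ∀ o, (r o) ^ q = r o ∧ ∀ x ∈ Xset hF fr H, r o * x ∈ Xset hF fr H := by
    rintro (_ | a)
    · exact ⟨zero_pow (q_ne_zero hF), fun x _ => by simp [r]⟩
    · exact ⟨a.2.2.1, a.2.2.2⟩
  have hr_inj : Function.Injective r := by
    rintro (_ | a) (_ | b) h
    · rfl
    · exact absurd h.symm b.2.1
    · exact absurd h a.2.1
    · exact congrArg some (Subtype.ext h)
  refine Nat.card_le_card_of_injective (fun p : Option (U0 hF fr H) × Xset hF fr H =>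
    (⟨r p.1 * z + p.2.1, ?_⟩ : {x : F // x + x ^ q = 0})) ?_
  · rw [add_pow_q hF, mul_pow, (hr p.1).1]
    linear_combination r p.1 * hz + skew_of_mem_X hF fr H p.2.2
  · rintro ⟨a, x⟩ ⟨b, y⟩ e
    have e' : r a * z + x.1 = r b * z + y.1 := congrArg Subtype.val e
    by_cases hab : a = b
    · subst hab
      rw [Subtype.ext (add_left_cancel e')]
    exfalso
    set d := r a - r b
    have hd0 : d ≠ 0 := sub_ne_zero.2 fun h => hab (hr_inj h)
    have hd : ∀ t ∈ Xset hF fr H, d * t ∈ Xset hF fr H := fun t ht => by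
      rw [sub_mul]; exact sub_mem ((hr a).2 t ht) ((hr b).2 t ht)
    have hdz : d * z ∈ Xset hF fr H := by
      rw [show d * z = y.1 - x.1 by linear_combination e']
      exact sub_mem y.2 x.2
    obtain ⟨t, ht⟩ := Finite.surjective_of_injective
      (f := fun t : Xset hF fr H => (⟨d * t.1, hd _ t.2⟩ : Xset hF fr H))
      (fun s t h => Subtype.ext (mul_left_cancel₀ hd0 (congrArg Subtype.val h))) ⟨_, hdz⟩
    exact hzX (mul_left_cancel₀ hd0 (congrArg Subtype.val ht) ▸ t.2)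

theorem card_line_le : Nat.card (H ⊓ Pline hF fr : Subgroup (SU n F q)) ≤
    (q + 1) * Nat.card (U0 hF fr H) *
      Nat.card (H ⊓ fixer n F q {fr.u} : Subgroup (SU n F q)) := by
  classical
  have hB : Nat.card {a : F // a * a ^ q ∈ U0 hF fr H} ≤ Nat.card (U0 hF fr H) * (q + 1) := by
    haveI : Fintype (U0 hF fr H) := Fintype.ofFinite _
    let e : {a : F // a * a ^ q ∈ U0 hF fr H} ≃ Σ b : U0 hF fr H, {a : F // a * a ^ q = b.1} :=
      { toFun := fun a => ⟨⟨_, a.2⟩, a.1, rfl⟩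
        invFun := fun p => ⟨p.2.1, by rw [p.2.2]; exact p.1.2⟩
        left_inv := fun a => rfl
        right_inv := fun p => Sigma.subtype_ext (Subtype.ext p.2.2) rfl }
    rw [Nat.card_congr e,
      Nat.card_sigma, Finset.sum_congr rfl fun b _ => card_norm_eq hF b.2.1 b.2.2.1,
      Finset.sum_const, Finset.card_univ, smul_eq_mul, Nat.card_eq_fintype_card]
  rw [mul_comm (q + 1)]
  refine (card_le_of_fibres _ (H ⊓ fixer n F q {fr.u}) (fun g => hermForm n F q (ap g fr.u) fr.v)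
    {a : F | a * a ^ q ∈ U0 hF fr H} ?_ ?_).trans (Nat.mul_le_mul_right _ hB)
  · rintro g ⟨hg, hgP⟩
    obtain ⟨a, ha⟩ := (mem_Pline hF fr).1 hgP
    show hermForm n F q (ap g fr.u) fr.v * hermForm n F q (ap g fr.u) fr.v ^ q ∈ U0 hF fr H
    rw [ha, herm_smul_left, fr.uv hF, mul_one]
    have ha0 : a ≠ 0 := by
      rintro rfl
      exact fr.u_ne_zero hF (ap_injective g (by rw [ha, zero_smul, ap_zero]))
    refine ⟨mul_ne_zero ha0 (pow_ne_zero _ ha0), norm_pow_q hF a, fun x hx => ?_⟩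
    have hxs := skew_of_mem_X hF fr H hx
    have hs : a * a ^ q * x + (a * a ^ q * x) ^ q = 0 := by
      rw [mul_pow, norm_pow_q hF]; linear_combination a * a ^ q * hxs
    rw [mem_X_iff hF fr H hs]
    have : g * tv hF fr.uu hxs * g⁻¹ = tv hF fr.uu hs := by
      rw [mul_inv_eq_iff_eq_mul]
      refine ap_ext fun y => ?_
      simp only [ap_mul, ap_tv, ap_add, ap_smul, ha]
      have e2 : hermForm n F q y fr.u * 1 = hermForm n F q (ap g y) (ap g fr.u) := by
        rw [herm_ap, mul_one]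
      rw [ha, herm_smul_right, mul_one] at e2
      rw [e2]
      module
    rw [← this]
    exact mul_mem (mul_mem hg ((mem_X_iff hF fr H hxs).1 hx)) (inv_mem hg)
  · rintro g ⟨hg, hgP⟩ g' ⟨hg', hgP'⟩ e
    obtain ⟨a, ha⟩ := (mem_Pline hF fr).1 hgP
    obtain ⟨b, hb⟩ := (mem_Pline hF fr).1 hgP'
    simp only [ha, hb, herm_smul_left, fr.uv hF, mul_one] at e
    subst e
    refine ⟨H.mul_mem (H.inv_mem hg) hg', (mem_fixer_u fr).2 ?_⟩
    rw [ap_mul, hb, ← ha, ap_inv_ap]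

include hn in
theorem card_line_ge : (q ^ 2 - 1) * (Nat.card (SU k F q) * q ^ (2 * k + 1)) ≤
    Nat.card (Pline hF fr) := by
  classical
  have hcard : Nat.card {p : (Fin k → F) × F // p.2 + p.2 ^ q + hermForm k F q p.1 p.1 = 0}
      = q ^ (2 * k + 1) := by
    have hfib : ∀ c : Fin k → F,
        Nat.card {α : F // α + α ^ q + hermForm k F q c c = 0} = q := by
      intro c
      obtain ⟨α₀, hα₀⟩ := exists_trace_eq hF (a := -hermForm k F q c c)
        (by rw [neg_pow_q hF, herm_self_fixed hF])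
      refine (Nat.card_congr (Equiv.subtypeEquiv (Equiv.subRight α₀) fun α => ?_)).trans
        (card_trace_zero hF)
      simp only [Equiv.subRight_apply, sub_pow_q hF]
      constructor <;> intro h
      · linear_combination h - hα₀
      · linear_combination h + hα₀
    rw [Nat.card_congr (Equiv.subtypeProdEquivSigmaSubtype
      (fun c α => α + α ^ q + hermForm k F q c c = 0))]
    rw [Nat.card_sigma, Finset.sum_congr rfl fun c _ => hfib c, Finset.sum_const, Finset.card_univ,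
      smul_eq_mul, Fintype.card_fun, Fintype.card_fin, hF, ← pow_mul, pow_succ]
  have hD : ∀ a : Fˣ, ∃ g : SU n F q, ap g fr.u = (a : F) • fr.u := fun a =>
    exists_map_iso hF hn (fr.u_ne_zero hF) (smul_ne_zero a.ne_zero (fr.u_ne_zero hF)) fr.uu
      (by rw [herm_self_smul, fr.uu, mul_zero])
  choose D hD using hD
  rw [← hcard, show q ^ 2 - 1 = Nat.card Fˣ by rw [card_units hF, ← Nat.sq_sub_sq, one_pow], ← Nat.card_prod,
    ← Nat.card_prod]
  refine Nat.card_le_card_of_injective (fun p => (⟨D p.1 * (fr.eQ hF p.2.2.2 * emb hF fr.on p.2.1),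
    ⟨(p.1 : F), ?_⟩⟩ : Pline hF fr)) ?_
  · rw [ap_mul, ap_mul, ap_emb_of_orth hF fr.on _ (fr.uE hF), fr.ap_eQ_u, hD]
  · rintro ⟨a, A, ⟨c, α⟩, h⟩ ⟨a', A', ⟨c', α'⟩, h'⟩ e
    have e' := congrArg Subtype.val e
    simp only at e'
    have eu := congrArg (fun g => ap g fr.u) e'
    simp only [ap_mul, ap_emb_of_orth hF fr.on _ (fr.uE hF), fr.ap_eQ_u, hD] at eu
    have ea : a = a' := Units.ext (smul_left_injective F (fr.u_ne_zero hF) eu)
    subst ea
    obtain ⟨rfl, rfl, rfl⟩ := fr.factor_inj hF h h' (mul_left_cancel e')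
    rfl

include hn hz hzX in
/-- The local index bound. -/
theorem local_bound : q ^ (2 * k + 1) * (q - 1) * (Iset hF fr H).index ≤
    H.index * (Nat.card (Rset hF fr H) * (q - Nat.card (Xset hF fr H))) := by
  have h1 := card_line_ge hF fr hn
  have h2 := card_le_index_mul H (Pline hF fr)
  have h3 := card_line_le hF fr H
  have h4 := card_fix_le hF fr H
  have h5 := card_radical_le hF fr H
  have h6 := card_U0_le hF fr H hz hzX
  have h7 := (Iset hF fr H).card_mul_index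
  have h8 : 0 < Nat.card (Iset hF fr H) := Nat.card_pos
  set U := Nat.card (U0 hF fr H)
  set X := Nat.card (Xset hF fr H)
  set R := Nat.card (Rset hF fr H)
  set I := Nat.card (Iset hF fr H)
  have hUX : U * X ≤ q - X := by rw [Nat.le_sub_iff_add_le (by nlinarith)]; linarith [h6]
  have hsq : q ^ 2 - 1 = (q + 1) * (q - 1) := by rw [← Nat.sq_sub_sq, one_pow]
  rw [hsq, ← h7] at h1
  have big : (q + 1) * I * (q ^ (2 * k + 1) * (q - 1) * (Iset hF fr H).index) ≤
      (q + 1) * I * (H.index * (R * (U * X))) := by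
    calc _ = (q + 1) * (q - 1) * (I * (Iset hF fr H).index * q ^ (2 * k + 1)) := by ring
      _ ≤ _ := h1
      _ ≤ _ := h2
      _ ≤ H.index * ((q + 1) * U * (I * (R * X))) :=
        Nat.mul_le_mul_left _ (h3.trans (Nat.mul_le_mul_left _ (h4.trans (Nat.mul_le_mul_left _ h5))))
      _ = _ := by ring
  exact (Nat.le_of_mul_le_mul_left big (by positivity)).trans
    (Nat.mul_le_mul_left _ (Nat.mul_le_mul_left _ hUX))

end Cfsg.Agent.H52.Un
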