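import Cfsg.Agent.H52.Un.Isotropy
import Cfsg.Agent.H52.SUThree
import Cfsg.Agent.Unitary.TIFrames

/-!
# Subgroups of `SU(3, q)` preserving an isotropic group of vectors
-/

set_option autoImplicit false
set_option maxHeartbeats 1000000
set_option linter.unusedSectionVars false

namespace Cfsg.Agent.H52.Un

open Cfsg Matrix
open Cfsg.Agent.Unitary

variable {F : Type*} [Field F] [Fintype F] {q : ℕ}

local notation "V3" => (Fin 3 → F)
local notation "h₃" => hermForm 3 F q

theorem card_iso_three (hF : Fintype.card F = q ^ 2) :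
    isoN q 3 = (q ^ 3 + 1) * (q ^ 2 - 1) := by
  simp [isoN, guFactor]

/-- Orbit bound through one vector. -/
theorem index_ge_vec (hF : Fintype.card F = q ^ 2) (I : Subgroup (SU 3 F q)) (R : AddSubgroup V3)
    (hR : ∀ A ∈ I, ∀ c ∈ R, ap A c ∈ R) {c : V3} (hc : c ∈ R) (hc0 : c ≠ 0) :
    min ((q ^ 3 + 1) * (q ^ 2 - 1)) (q ^ 2 * (q ^ 3 + 1)) ≤ I.index * (Nat.card R - 1) := by
  classical
  have hcardT : Nat.card ((R : Set V3) \ {0} : Set V3) = Nat.card R - 1 := by
    rw [Nat.card_coe_set_eq, Set.ncard_sdiff (by simp), Set.ncard_singleton,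
      ← Nat.card_coe_set_eq]
    rfl
  have hT : ∀ h ∈ I, ap h c ∈ ((R : Set V3) \ {0}) := fun h hh => ⟨hR h hh c hc, fun e => hc0 (by
    rw [Set.mem_singleton_iff] at e; exact ap_injective h (by rw [e, ap_zero]))⟩
  have key : ∀ U : Set V3, (∀ y ∈ U, ∃ g : SU 3 F q, ap g c = y) →
      Nat.card U ≤ I.index * (Nat.card R - 1) := fun U hU =>
    hcardT ▸ card_orbit_le I ap ap_mul c _ hT U hU
  by_cases hcc : h₃ c c = 0
  · refine le_trans (min_le_left _ _) ?_
    rw [← card_iso_three hF, ← card_iso_nonzero hF (by norm_num)]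
    exact key {x | x ≠ 0 ∧ h₃ x x = 0} fun y hy => exists_map_iso hF le_rfl hc0 hy.1 hcc hy.2
  · refine le_trans (min_le_right _ _) ?_
    have e : Nat.card {x : V3 // h₃ x x = h₃ c c} = q ^ 2 * (q ^ 3 + 1) := by
      rw [card_norm_vec hF (by norm_num) hcc (herm_self_fixed hF c)]
      simp [guFactor]
    rw [← e]
    exact key {x | h₃ x x = h₃ c c} fun y hy => exists_map_norm hF (by norm_num) hy hcc

theorem eq_zero_or_mem_line (hF : Fintype.card F = q ^ 2) {r z : V3} (hr : h₃ r r = 0)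
    (hz : h₃ z z = 0) (hrz : h₃ r z = 0) (hz0 : z ≠ 0) : ∃ a : F, r = a • z := by
  by_contra h
  push Not at h
  have hind : LinearIndependent F ![z, r] := by
    rw [LinearIndependent.pair_iff' hz0]
    exact fun a ha => h a ha.symm
  have hzr := (herm_eq_zero_symm hF).1 hrz
  have := two_mul_le_of_frame hF (⟨![z, r], hind, fun i j => by
    fin_cases i <;> fin_cases j <;> simp [hz, hr, hrz, hzr]⟩ : TIFrame 3 F q 2)
  omega

section maximal

variable (hF : Fintype.card F = q ^ 2) {R : AddSubgroup (Fin 3 → F)}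
variable (hiso : ∀ c ∈ R, ∀ d ∈ R, hermForm 3 F q c d - hermForm 3 F q d c = 0)
variable (hcard : Nat.card R = q ^ 3)

include hF hiso in
theorem real_herm {c d : V3} (hc : c ∈ R) (hd : d ∈ R) : h₃ c d ^ q = h₃ c d := by
  rw [herm_swap hF]; exact (sub_eq_zero.1 (hiso c hc d hd)).symm

include hF in
theorem exists_nonfixed : ∃ a : F, a ^ q ≠ a := by
  by_contra h
  push Not at h
  have h2 : Nat.card {x : F // x ^ q = x} = Nat.card F :=
    Nat.card_congr (Equiv.subtypeUnivEquiv h)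
  rw [card_fixed hF, Nat.card_eq_fintype_card, hF] at h2
  have := two_le_q hF
  nlinarith

include hF hiso hcard in
theorem smul_mem_of_fixed {t : F} (ht : t ^ q = t) {c : V3} (hc : c ∈ R) : t • c ∈ R := by
  obtain ⟨δ, hδ0, hδ⟩ := exists_skew hF
  let f : V3 →+ V3 :=
    { toFun := fun x => t • x
      map_zero' := smul_zero t
      map_add' := smul_add t }
  have hb : Nat.card (R ⊔ R.map f : AddSubgroup V3) * Nat.card (R ⊔ R.map f : AddSubgroup V3)
      ≤ q ^ (2 * 3) := by
    refine card_sq_le_of_isotropic hF _ ⊥ (z := δ) (by rw [hδ, add_neg_cancel])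
      (by simpa using hδ0) ?_
    intro x hx y hy
    obtain ⟨a, ha, _, ⟨b, hb, rfl⟩, rfl⟩ := AddSubgroup.mem_sup.1 hx
    obtain ⟨a', ha', _, ⟨b', hb', rfl⟩, rfl⟩ := AddSubgroup.mem_sup.1 hy
    rw [AddSubgroup.mem_bot]
    show h₃ (a + t • b) (a' + t • b') - h₃ (a' + t • b') (a + t • b) = 0
    simp only [herm_add_left, herm_add_right hF, herm_smul_left, herm_smul_right, ht]
    linear_combination hiso a ha a' ha' + t * hiso a ha b' hb' + t * hiso b hb a' ha'
      + t * t * hiso b hb b' hb'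
  have hle : Nat.card (R ⊔ R.map f : AddSubgroup V3) ≤ Nat.card R := by
    rw [hcard]
    refine Nat.mul_self_le_mul_self_iff.1 (hb.trans_eq ?_)
    ring
  have e := AddSubgroup.eq_of_le_of_card_ge (le_sup_left (b := R.map f)) hle
  rw [e]
  exact AddSubgroup.mem_sup_right ⟨c, hc, rfl⟩

include hF hiso in
theorem line_props {z : V3} (hz : ∀ a : F, a • z ∈ R) :
    ∀ c ∈ R, h₃ z c = 0 := by
  intro c hc
  obtain ⟨a, ha⟩ := exists_nonfixed hF
  have h1 := real_herm hF hiso (by simpa using hz 1) hc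
  have h2 := real_herm hF hiso (hz a) hc
  rw [herm_smul_left, mul_pow, h1] at h2
  by_contra h0
  exact ha (mul_right_cancel₀ h0 h2)

include hF hiso hcard in
theorem exists_aniso : ∃ x ∈ R, h₃ x x ≠ 0 := by
  by_contra h
  push Not at h
  have hq := two_le_q hF
  have h1 : 1 < Nat.card R := by
    rw [hcard]
    calc 1 < 2 ^ 3 := by norm_num
      _ ≤ q ^ 3 := Nat.pow_le_pow_left hq 3
  obtain ⟨x, hx0⟩ : ∃ x : R, x.1 ≠ 0 := by
    by_contra hh
    push Not at hh
    have : Subsingleton R := ⟨fun a b => Subtype.ext (by rw [hh a, hh b])⟩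
    rw [Nat.card_of_subsingleton (0 : R)] at h1
    omega
  by_cases horth : ∀ r ∈ R, h₃ r x.1 = 0
  · have hle : Nat.card R ≤ Nat.card F := by
      refine Nat.card_le_card_of_injective (fun r : R =>
        (eq_zero_or_mem_line hF (h r.1 r.2) (h x.1 x.2) (horth r.1 r.2) hx0).choose) ?_
      intro r r' e
      have e1 := (eq_zero_or_mem_line hF (h r.1 r.2) (h x.1 x.2) (horth r.1 r.2) hx0).choose_spec
      have e2 := (eq_zero_or_mem_line hF (h r'.1 r'.2) (h x.1 x.2) (horth r'.1 r'.2) hx0).choose_spec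
      simp only at e
      rw [← e, ← e1] at e2
      exact Subtype.ext e2.symm
    rw [hcard, Nat.card_eq_fintype_card, hF] at hle
    have : q ^ 2 < q ^ 3 := Nat.pow_lt_pow_right (by omega) (by norm_num)
    omega
  push Not at horth
  obtain ⟨y, hy, hyx⟩ := horth
  let f : R → {a : F // a ^ q = a} × {a : F // a ^ q = a} := fun r =>
    (⟨h₃ r.1 x.1, real_herm hF hiso r.2 x.2⟩, ⟨h₃ r.1 y, real_herm hF hiso r.2 hy⟩)
  obtain ⟨r, r', e, hne⟩ : ∃ r r', f r = f r' ∧ r ≠ r' := by
    by_contra hh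
    push Not at hh
    have := Nat.card_le_card_of_injective f fun a b e => hh a b e
    rw [Nat.card_prod, card_fixed hF, hcard] at this
    have : q * q < q ^ 3 := by
      calc q * q = q ^ 2 := (sq q).symm
        _ < q ^ 3 := Nat.pow_lt_pow_right (by omega) (by norm_num)
    omega
  simp only [f, Prod.mk.injEq, Subtype.mk.injEq] at e
  set d := r.1 - r'.1
  have hd : d ∈ R := sub_mem r.2 r'.2
  have hd0 : d ≠ 0 := sub_ne_zero.2 fun h => hne (Subtype.ext h)
  have hdx : h₃ d x.1 = 0 := by rw [herm_sub_left, e.1, sub_self]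
  have hdy : h₃ d y = 0 := by rw [herm_sub_left, e.2, sub_self]
  obtain ⟨a, ha⟩ := eq_zero_or_mem_line hF (h d hd) (h x.1 x.2) hdx hx0
  have ha0 : a ≠ 0 := fun h => hd0 (by rw [ha, h, zero_smul])
  rw [ha, herm_smul_left, mul_eq_zero, or_iff_right ha0] at hdy
  exact hyx ((herm_eq_zero_symm hF).1 hdy)

/-- The vectors of `R` orthogonal to `x`. -/
def Kx (R : AddSubgroup (Fin 3 → F)) (q : ℕ) (x : Fin 3 → F) : Set (Fin 3 → F) :=
  {r | r ∈ R ∧ hermForm 3 F q r x = 0}

include hF hiso hcard in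
theorem card_Kx {x : V3} (hx : x ∈ R) (hxx : h₃ x x ≠ 0) : Nat.card (Kx R q x) = q ^ 2 := by
  have ha := herm_self_fixed hF x
  have e : R ≃ {t : F // t ^ q = t} × Kx R q x :=
    { toFun := fun r => (⟨h₃ r.1 x / h₃ x x, by rw [div_pow, real_herm hF hiso r.2 hx, ha]⟩,
        ⟨r.1 - (h₃ r.1 x / h₃ x x) • x, sub_mem r.2 (smul_mem_of_fixed hF hiso hcard
          (by rw [div_pow, real_herm hF hiso r.2 hx, ha]) hx), by
          rw [herm_sub_left, herm_smul_left, div_mul_cancel₀ _ hxx, sub_self]⟩)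
      invFun := fun p => ⟨p.1.1 • x + p.2.1,
        add_mem (smul_mem_of_fixed hF hiso hcard p.1.2 hx) p.2.2.1⟩
      left_inv := fun r => Subtype.ext (add_sub_cancel _ _)
      right_inv := fun p => by
        have h : h₃ (p.1.1 • x + p.2.1) x / h₃ x x = p.1.1 := by
          rw [herm_add_left, herm_smul_left, p.2.2.2, add_zero, mul_div_cancel_right₀ _ hxx]
        refine Prod.ext (Subtype.ext h) (Subtype.ext ?_)
        show p.1.1 • x + p.2.1 - (h₃ (p.1.1 • x + p.2.1) x / h₃ x x) • x = p.2.1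
        rw [h, add_sub_cancel_left] }
  have h := Nat.card_congr e
  rw [hcard, Nat.card_prod, card_fixed hF, pow_succ'] at h
  exact (Nat.eq_of_mul_eq_mul_left (q_pos hF) h).symm

include hF hiso hcard in
/-- Without full lines there is an orthogonal pair of anisotropic vectors. -/
theorem exists_pair (hline : ∀ z, z ≠ 0 → ∃ a : F, a • z ∉ R) :
    ∃ x ∈ R, ∃ y ∈ R, h₃ x x ≠ 0 ∧ h₃ y y ≠ 0 ∧ h₃ y x = 0 := by
  obtain ⟨x, hx, hxx⟩ := exists_aniso hF hiso hcard
  by_cases h : ∃ y ∈ Kx R q x, h₃ y y ≠ 0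
  · obtain ⟨y, ⟨hy, hyx⟩, hyy⟩ := h
    exact ⟨x, hx, y, hy, hxx, hyy, hyx⟩
  push Not at h
  have hq := two_le_q hF
  obtain ⟨y1, ⟨hy1, hy1x⟩, y2, ⟨hy2, hy2x⟩, hc⟩ :
      ∃ y1 ∈ Kx R q x, ∃ y2 ∈ Kx R q x, h₃ y2 y1 ≠ 0 := by
    by_contra hh
    push Not at hh
    obtain ⟨y, hy, hy0⟩ : ∃ y ∈ Kx R q x, y ≠ 0 := by
      by_contra h0
      push Not at h0
      have : Nat.card (Kx R q x) ≤ 1 := by
        rw [Finite.card_le_one_iff_subsingleton]
        exact ⟨fun a b => Subtype.ext (by rw [h0 _ a.2, h0 _ b.2])⟩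
      rw [card_Kx hF hiso hcard hx hxx] at this
      nlinarith
    have hl := fun r : Kx R q x => eq_zero_or_mem_line hF (h r.1 r.2) (h y hy) (hh y hy r.1 r.2) hy0
    choose a ha using hl
    have hinj : Function.Injective a := fun r r' e => Subtype.ext (by rw [ha r, ha r', e])
    have hbij : Function.Bijective a := (Nat.bijective_iff_injective_and_card a).2 ⟨hinj, by
      rw [card_Kx hF hiso hcard hx hxx, Nat.card_eq_fintype_card, hF]⟩
    obtain ⟨b, hb⟩ := hline y hy0
    obtain ⟨r, rfl⟩ := hbij.2 b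
    exact hb (ha r ▸ r.2.1)
  set c := h₃ y2 y1
  have hcf : c ^ q = c := real_herm hF hiso hy2 hy1
  have hy11 : h₃ y1 y1 = 0 := h y1 ⟨hy1, hy1x⟩
  have hy22 : h₃ y2 y2 = 0 := h y2 ⟨hy2, hy2x⟩
  have hxy1 := (herm_eq_zero_symm hF).1 hy1x
  have hxy2 := (herm_eq_zero_symm hF).1 hy2x
  have hy12 : h₃ y1 y2 = c := by rw [← herm_swap hF y2 y1]; exact hcf
  set a := h₃ x x
  have haf : a ^ q = a := herm_self_fixed hF x
  have hx' : h₃ (x + y1) (x + y1) = a := by
    simp only [herm_add_left, herm_add_right hF, hxy1, hy1x, hy11, add_zero]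
    rfl
  refine ⟨x + y1, add_mem hx hy1, y2 - (c / a) • (x + y1), sub_mem hy2
    (smul_mem_of_fixed hF hiso hcard (by rw [div_pow, hcf, haf]) (add_mem hx hy1)),
    by rw [hx']; exact hxx, ?_, ?_⟩
  · have e : h₃ (y2 - (c / a) • (x + y1)) (y2 - (c / a) • (x + y1)) = -(c * c / a) := by
      simp only [herm_sub_left, herm_sub_right hF, herm_smul_left, herm_smul_right,
        herm_add_left, herm_add_right hF, hxy1, hy1x, hy11, hy22, hxy2, hy2x, hy12, add_zero,
        zero_add, div_pow, hcf, haf]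
      field_simp
      ring
    rw [e, neg_ne_zero]
    exact div_ne_zero (mul_ne_zero hc hc) hxx
  · rw [herm_sub_left, herm_smul_left, hx', div_mul_cancel₀ _ hxx, herm_add_right hF, hy2x,
      zero_add, sub_self]

include hF hiso hcard in
theorem index_ge_line (I : Subgroup (SU 3 F q)) (hR : ∀ A ∈ I, ∀ c ∈ R, ap A c ∈ R)
    {z : V3} (hz0 : z ≠ 0) (hz : ∀ a : F, a • z ∈ R) : 2 * (q ^ 3 + 1) ≤ I.index := by
  classical
  have hzR : z ∈ R := by simpa using hz 1
  have horth := line_props hF hiso hz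
  have hzz : h₃ z z = 0 := horth z hzR
  have huniq : ∀ r : V3, (∀ a : F, a • r ∈ R) → ∃ a : F, r = a • z := fun r hr => by
    have hrR : r ∈ R := by simpa using hr 1
    exact eq_zero_or_mem_line hF (line_props hF hiso hr r hrR) hzz
      (line_props hF hiso hr z hzR) hz0
  let St : Subgroup (SU 3 F q) :=
    { carrier := {g | ∃ a : F, ap g z = a • z}
      one_mem' := ⟨1, by rw [ap_one, one_smul]⟩
      mul_mem' := fun {g g'} ⟨a, ha⟩ ⟨b, hb⟩ => ⟨b * a, by rw [ap_mul, hb, ap_smul, ha, smul_smul]⟩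
      inv_mem' := fun {g} ⟨a, ha⟩ => ⟨a⁻¹, by
        have ha0 : a ≠ 0 := by
          rintro rfl
          exact hz0 (ap_injective g (by rw [ha, zero_smul, ap_zero]))
        have := congrArg (ap g⁻¹) ha
        rw [ap_inv_ap, ap_smul] at this
        nth_rw 2 [this]
        rw [inv_smul_smul₀ ha0]⟩ }
  have hle : I ≤ St := fun A hA => huniq _ fun a => by
    rw [← ap_smul]; exact hR A hA _ (hz a)
  have hSt : q ^ 3 + 1 ≤ St.index := by
    have hT : ∀ g ∈ St, ap g z ∈ Set.range fun a : Fˣ => (a : F) • z := fun g ⟨a, ha⟩ => by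
      have ha0 : a ≠ 0 := by
        rintro rfl
        exact hz0 (ap_injective g (by rw [ha, zero_smul, ap_zero]))
      exact ⟨Units.mk0 a ha0, ha.symm⟩
    have h := card_orbit_le St ap ap_mul z _ hT {x | x ≠ 0 ∧ h₃ x x = 0}
      fun y hy => exists_map_iso hF le_rfl hz0 hy.1 hzz hy.2
    have h2 : Nat.card (Set.range fun a : Fˣ => (a : F) • z) ≤ q ^ 2 - 1 :=
      (Finite.card_range_le _).trans_eq (by rw [card_units hF, ← Nat.sq_sub_sq, one_pow])
    rw [show Nat.card ({x | x ≠ 0 ∧ h₃ x x = 0} : Set V3) = isoN q 3 from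
      card_iso_nonzero hF (by norm_num), card_iso_three hF] at h
    have : 0 < q ^ 2 - 1 := by
      have := Nat.pow_le_pow_left (two_le_q hF) 2
      omega
    exact Nat.le_of_mul_le_mul_right (h.trans (Nat.mul_le_mul_left _ h2)) this
  -- an element of the stabiliser outside
  obtain ⟨x, hx, hxx⟩ := exists_aniso hF hiso hcard
  obtain ⟨l, hl⟩ := exists_norm_eq hF (herm_self_fixed hF x)
  have hl0 : l ≠ 0 := by rintro rfl; exact hxx (by rw [← hl, zero_mul])
  set w := l⁻¹ • x
  have hww : h₃ w w = 1 := by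
    rw [herm_self_smul, inv_pow, ← mul_inv, hl, inv_mul_cancel₀ hxx]
  have hzw : h₃ z w = 0 := by rw [herm_smul_right, horth x hx, mul_zero]
  have hW : Nondeg q (perp q ({w} : Set V3)) := by
    have hon : ON q (fun _ : Fin 1 => w) := fun a b => by rw [if_pos (Subsingleton.elim a b), hww]
    have := nondeg_perp hF hon.nondeg
    rwa [perp_span hF, Set.range_const] at this
  obtain ⟨f, hfW, hff, hfz⟩ := exists_partner hF hW (mem_perp_singleton.2 hzw) hz0 hzz
  have hfw : h₃ f w = 0 := mem_perp_singleton.1 hfW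
  have hfr : SUThree.Frame q z w f := ⟨hzz, hff, hww, by rw [← herm_swap hF f z, hfz, one_pow], hfz,
    (herm_eq_zero_symm hF).1 hzw, hzw, (herm_eq_zero_symm hF).1 hfw, hfw⟩
  obtain ⟨μ, hμ, hμ2⟩ : ∃ μ : F, μ * μ ^ q = 1 ∧ μ * μ ≠ 1 := by
    by_contra hh
    push Not at hh
    have h3 : Nat.card {x : F // x * x ^ q = 1} ≤ 2 := by
      refine (Nat.card_le_card_of_injective (fun x => (⟨x.1, ?_⟩ : ({1, -1} : Set F))) ?_).trans ?_
      · rcases mul_self_eq_one_iff.1 (hh x.1 x.2) with e | e <;> simp [e]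
      · exact fun a b e => Subtype.ext (congrArg Subtype.val e :)
      · rw [Nat.card_coe_set_eq]
        exact (Set.ncard_insert_le _ _).trans (by rw [Set.ncard_singleton])
    rw [card_norm_eq_one hF] at h3
    have := two_le_q hF
    omega
  have hμ0 : μ ≠ 0 := left_ne_zero_of_mul_eq_one hμ
  obtain ⟨ν, hν⟩ : ∃ ν : Fˣ, (ν : F) ^ (q - 1) = μ := by
    have hmem : Units.mk0 μ hμ0 ∈ (powMonoidHom (q + 1) : Fˣ →* Fˣ).ker := by
      rw [MonoidHom.mem_ker, powMonoidHom_apply]
      ext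
      simp only [Units.val_pow_eq_pow_val, Units.val_mk0, Units.val_one]
      rw [pow_succ', hμ]
    rw [← range_pow_sub_eq_ker hF] at hmem
    obtain ⟨ν, hν⟩ := hmem
    exact ⟨ν, by simpa using congrArg Units.val hν⟩
  have hν0 : (ν : F) ^ q ≠ 0 := pow_ne_zero _ ν.ne_zero
  have hνq : (ν : F) ^ q = μ * ν := by rw [← hν, pow_sub_one_mul (q_ne_zero hF)]
  obtain ⟨g, hg⟩ := SUThree.exists_map hF hfr (Matrix.diagonal ![(ν : F), μ, ((ν : F) ^ q)⁻¹]) (by
      rw [det_diagonal, Fin.prod_univ_three]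
      simp only [Matrix.cons_val_zero, Matrix.cons_val_one, Matrix.cons_val]
      rw [mul_comm (ν : F) μ, ← hνq, mul_inv_cancel₀ hν0])
    (fun a b => by
      simp only [mulVec_diagonal, Matrix.cons_val_zero, Matrix.cons_val_one, Matrix.cons_val,
        mul_pow, inv_pow, pow_q_q hF]
      field_simp
      linear_combination a 1 * b 1 ^ q * hμ)
  have hgz : ap g z = (ν : F) • z := by
    simpa [SUThree.vec, mulVec_diagonal] using hg 1 0 0
  have hgw : ap g w = μ • w := by
    simpa [SUThree.vec, mulVec_diagonal] using hg 0 1 0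
  have hgI : g ∉ I := fun hg' => by
    have hxw : x = l • w := by rw [smul_inv_smul₀ hl0]
    have hgx : ap g x = μ • x := by rw [hxw, ap_smul, hgw, smul_comm]
    have h2 := real_herm hF hiso (hR g hg' x hx) hx
    rw [hgx, herm_smul_left, mul_pow, herm_self_fixed hF] at h2
    have h3 := mul_right_cancel₀ hxx h2
    rw [h3] at hμ
    exact hμ2 hμ
  have hne : I.relIndex St ≠ 1 := fun h => hgI (Subgroup.relIndex_eq_one.1 h ⟨_, hgz⟩)
  have hne0 : I.relIndex St ≠ 0 := by
    intro h0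
    have := Subgroup.relIndex_mul_index hle
    rw [h0, zero_mul] at this
    exact Subgroup.index_ne_zero_of_finite this.symm
  rw [← Subgroup.relIndex_mul_index hle]
  exact Nat.mul_le_mul (by omega) hSt

include hF hiso hcard in
theorem index_ge_pairs (I : Subgroup (SU 3 F q)) (hR : ∀ A ∈ I, ∀ c ∈ R, ap A c ∈ R)
    {x y : V3} (hx : x ∈ R) (hy : y ∈ R) (hxx : h₃ x x ≠ 0) (hyy : h₃ y y ≠ 0)
    (hyx : h₃ y x = 0) : q ^ 3 * (q ^ 3 + 1) * (q ^ 2 - 1) ≤
      I.index * (min (2 * q ^ 2) (q ^ 3 - 1) * (q ^ 2 - 1)) := by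
  classical
  set a := h₃ x x with hadef
  set b := h₃ y y with hbdef
  have haf : a ^ q = a := herm_self_fixed hF x
  obtain ⟨l, hl⟩ := exists_norm_eq hF haf
  obtain ⟨m, hm⟩ := exists_norm_eq hF (herm_self_fixed hF y : b ^ q = b)
  have hl0 : l ≠ 0 := by rintro rfl; exact hxx (by rw [← hl, zero_mul])
  have hm0 : m ≠ 0 := by rintro rfl; exact hyy (hm.symm.trans (zero_mul _))
  let act : SU 3 F q → V3 × V3 → V3 × V3 := fun g p => (ap g p.1, ap g p.2)
  let mk : Frame 3 F q 2 → V3 × V3 := fun f => (l • f.1 0, m • f.1 1)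
  have hmk : Function.Injective mk := fun f f' e => by
    simp only [mk, Prod.mk.injEq] at e
    apply Subtype.ext
    funext i
    fin_cases i
    · exact smul_right_injective _ hl0 e.1
    · exact smul_right_injective _ hm0 e.2
  have hON : ON q ![l⁻¹ • x, m⁻¹ • y] := fun i j => by
    have hxy := (herm_eq_zero_symm hF).1 hyx
    fin_cases i <;> fin_cases j <;>
      simp [herm_smul_left, herm_smul_right, inv_pow, hyx, hxy, ← hadef, ← hbdef] <;>
      field_simp
    · linear_combination -hl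
    · linear_combination -hm
  have hU : ∀ p ∈ Set.range mk, ∃ g, act g (x, y) = p := by
    rintro _ ⟨f, rfl⟩
    obtain ⟨g, hg⟩ := exists_map_ON hF (j := 2) (by norm_num) hON f.2
    refine ⟨g, ?_⟩
    have h0 := hg 0
    have h1 := hg 1
    simp only [Matrix.cons_val_zero, Matrix.cons_val_one, ap_smul] at h0 h1
    simp only [act, mk, ← h0, ← h1, smul_inv_smul₀ hl0, smul_inv_smul₀ hm0]
  let T : Set (V3 × V3) := {p | (p.1 ∈ R ∧ h₃ p.1 p.1 = a) ∧ (p.2 ∈ Kx R q p.1 ∧ p.2 ≠ 0)}
  have hT : ∀ h ∈ I, act h (x, y) ∈ T := fun h hh =>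
    ⟨⟨hR h hh x hx, herm_ap h x x⟩, ⟨hR h hh y hy, by
      show h₃ (ap h y) (ap h x) = 0
      rw [herm_ap, hyx]⟩, fun e => hyy (by
      have e' : y = 0 := ap_injective h (e.trans (ap_zero h).symm)
      rw [hbdef, e', herm_zero_left])⟩
  have key := card_orbit_le I act (fun g g' p => by simp [act, ap_mul]) (x, y) T hT _ hU
  rw [Nat.card_range_of_injective hmk, card_frame_mul hF 2 (by norm_num), Finset.prod_range_succ,
    Finset.prod_range_one, normCount_one_nat hF, normCount_one_nat hF] at key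
  simp only [guFactor, show Even 2 by decide, show ¬ Even 1 by decide, if_true, if_false] at key
  refine le_trans (le_of_eq (by ring)) (key.trans (Nat.mul_le_mul_left _ ?_))
  -- count the pairs of `R`
  let T1 : Set V3 := {r | r ∈ R ∧ h₃ r r = a}
  haveI : Fintype T1 := Fintype.ofFinite _
  let e : T ≃ Σ r : T1, {s : V3 // s ∈ Kx R q r.1 ∧ s ≠ 0} :=
    { toFun := fun p => ⟨⟨p.1.1, p.2.1⟩, p.1.2, p.2.2⟩
      invFun := fun p => ⟨(p.1.1, p.2.1), p.1.2, p.2.2⟩
      left_inv := fun p => rfl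
      right_inv := fun p => rfl }
  have hfib : ∀ r : T1, Nat.card {s : V3 // s ∈ Kx R q r.1 ∧ s ≠ 0} = q ^ 2 - 1 := by
    intro r
    have hr : h₃ r.1 r.1 ≠ 0 := by rw [r.2.2]; exact hxx
    have h0 : (0 : V3) ∈ Kx R q r.1 := ⟨zero_mem R, herm_zero_left _⟩
    rw [← card_Kx hF hiso hcard r.2.1 hr, show {s : V3 // s ∈ Kx R q r.1 ∧ s ≠ 0} =
      (Kx R q r.1 \ {0} : Set V3) from rfl, Nat.card_coe_set_eq, Nat.card_coe_set_eq,
      Set.ncard_sdiff (by simpa using h0), Set.ncard_singleton]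
  rw [Nat.card_congr e, Nat.card_sigma, Finset.sum_congr rfl fun r _ => hfib r, Finset.sum_const,
    Finset.card_univ, smul_eq_mul, ← Nat.card_eq_fintype_card]
  refine Nat.mul_le_mul_right _ (le_min ?_ ?_)
  · have hK : ∀ r : T1, r.1 - (h₃ r.1 x / a) • x ∈ Kx R q x := fun r =>
      ⟨sub_mem r.2.1 (smul_mem_of_fixed hF hiso hcard
        (by rw [div_pow, real_herm hF hiso r.2.1 hx, haf]) hx),
       by rw [herm_sub_left, herm_smul_left, ← hadef, div_mul_cancel₀ _ hxx, sub_self]⟩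
    haveI : Fintype (Kx R q x) := Fintype.ofFinite _
    let π : T1 → Kx R q x := fun r => ⟨_, hK r⟩
    rw [← Nat.card_congr (Equiv.sigmaFiberEquiv π), Nat.card_sigma]
    refine (Finset.sum_le_card_nsmul _ _ 2 fun k _ => ?_).trans ?_
    · -- at most two vectors over each vector of the perpendicular
      let fib := {r : T1 // π r = k}
      rcases isEmpty_or_nonempty fib with hem | ⟨⟨r0⟩⟩
      · rw [Nat.card_of_isEmpty]; omega
      refine (Nat.card_le_card_of_injective (fun r : fib =>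
        (⟨h₃ r.1.1 x / a, ?_⟩ : ({h₃ r0.1.1 x / a, -(h₃ r0.1.1 x / a)} : Set F))) ?_).trans ?_
      · have e1 : r.1.1 - (h₃ r.1.1 x / a) • x = r0.1.1 - (h₃ r0.1.1 x / a) • x :=
          congrArg Subtype.val (r.2.trans r0.2.symm)
        have norm : ∀ (t : F) (k : V3), t ^ q = t → h₃ k x = 0 →
            h₃ (k + t • x) (k + t • x) = h₃ k k + t * t * a := by
          intro t k ht hk
          simp only [herm_add_left, herm_add_right hF, herm_smul_left, herm_smul_right, hk,
            (herm_eq_zero_symm hF).1 hk, ht, ← hadef]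
          ring
        have hrf : (h₃ r.1.1 x / a) ^ q = h₃ r.1.1 x / a := by
          rw [div_pow, real_herm hF hiso r.1.2.1 hx, haf]
        have hr0f : (h₃ r0.1.1 x / a) ^ q = h₃ r0.1.1 x / a := by
          rw [div_pow, real_herm hF hiso r0.1.2.1 hx, haf]
        have n1 := norm _ _ hrf (hK r.1).2
        have n0 := norm _ _ hr0f (hK r0.1).2
        rw [sub_add_cancel, r.1.2.2] at n1
        rw [sub_add_cancel, r0.1.2.2, ← e1] at n0
        have : h₃ r.1.1 x / a * (h₃ r.1.1 x / a) = h₃ r0.1.1 x / a * (h₃ r0.1.1 x / a) :=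
          mul_right_cancel₀ hxx (by linear_combination n0 - n1)
        rcases mul_self_eq_mul_self_iff.1 this with e2 | e2 <;> simp [e2]
      · intro r r' e
        have e1 : r.1.1 - (h₃ r.1.1 x / a) • x = r'.1.1 - (h₃ r'.1.1 x / a) • x :=
          congrArg Subtype.val (r.2.trans r'.2.symm)
        rw [show h₃ r.1.1 x / a = h₃ r'.1.1 x / a from congrArg Subtype.val e] at e1
        exact Subtype.ext (Subtype.ext (sub_left_injective e1))
      · rw [Nat.card_coe_set_eq]
        exact (Set.ncard_insert_le _ _).trans (by rw [Set.ncard_singleton])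
    · rw [Finset.card_univ, smul_eq_mul, ← Nat.card_eq_fintype_card,
        card_Kx hF hiso hcard hx hxx, mul_comm]
  · rw [← hcard, Nat.card_coe_set_eq]
    have e2 : ((R : Set V3) \ {0}).ncard = Nat.card R - 1 := by
      rw [Set.ncard_sdiff (by simp), Set.ncard_singleton, ← Nat.card_coe_set_eq]
      rfl
    rw [← e2]
    refine Set.ncard_le_ncard (fun r hr => ⟨hr.1, fun h0 => ?_⟩) (Set.toFinite _)
    rw [Set.mem_singleton_iff] at h0
    exact hxx (by rw [← hr.2, h0, herm_zero_left])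

include hF hiso hcard in
/-- The stabiliser of a maximal isotropic group has large index. -/
theorem index_ge_maximal (I : Subgroup (SU 3 F q)) (hR : ∀ A ∈ I, ∀ c ∈ R, ap A c ∈ R) :
    2 * (q ^ 3 + 1) ≤ I.index ∨
      q ^ 3 * (q ^ 3 + 1) ≤ I.index * min (2 * q ^ 2) (q ^ 3 - 1) := by
  by_cases h : ∃ z, z ≠ 0 ∧ ∀ a : F, a • z ∈ R
  · obtain ⟨z, hz0, hz⟩ := h
    exact Or.inl (index_ge_line hF hiso hcard I hR hz0 hz)
  push Not at h
  obtain ⟨x, hx, y, hy, hxx, hyy, hyx⟩ := exists_pair hF hiso hcard h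
  refine Or.inr (Nat.le_of_mul_le_mul_right ?_
    (show 0 < q ^ 2 - 1 by have := Nat.pow_le_pow_left (two_le_q hF) 2; omega))
  rw [mul_assoc I.index]
  exact index_ge_pairs hF hiso hcard I hR hx hy hxx hyy hyx

end maximal

end Cfsg.Agent.H52.Un
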